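import Cfsg.Agent.Lib.Small.OmegaPres.ForkBruhat

/-!
Matrix facts for the presentation of the orthogonal groups of plus type: monomial conjugation of root elements
and the extra generator.
-/

set_option autoImplicit false
set_option linter.unusedSectionVars false
set_option linter.unusedSimpArgs false
set_option linter.style.haveILetI false

namespace Cfsg.Agent.Small.OmegaPres

open Matrix Cfsg.Agent.Lie.CTA
open Cfsg.Agent.Lie.PlusGen (pl pl_swap swap_ne)

variable {F : Type*} [Field F] [Fintype F] {l : ℕ}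

local notation "SL2" => Matrix.SpecialLinearGroup (Fin 2) F

/-- A monomial isometry of the signed coordinates. -/
def SMono (g : GL (II l) F) (π : Equiv.Perm (II l)) (k : II l → F) : Prop :=
  (∀ z, π z.swap = (π z).swap) ∧ (∀ z, k z * k z.swap = 1) ∧ ∀ z, g.1 *ᵥ Pi.single z 1 = Pi.single (π z) (k z)

theorem SMono.mulVec {g : GL (II l) F} {π : Equiv.Perm (II l)} {k : II l → F} (h : SMono g π k) (z : II l) (c : F) :
    g.1 *ᵥ Pi.single z c = Pi.single (π z) (c * k z) := by
  rw [show (Pi.single z c : II l → F) = c • Pi.single z 1 by rw [← Pi.single_smul, smul_eq_mul, mul_one],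
    mulVec_smul, h.2.2, ← Pi.single_smul, smul_eq_mul]

theorem SMono.conj_S {g : GL (II l) F} {π : Equiv.Perm (II l)} {k : II l → F} (h : SMono g π k) {x y : II l}
    (hxy : pl x ≠ pl y) (t : F) : g * S x y t * g⁻¹ = S (π x) (π y) (k x * k y * t) := by
  have hkne : ∀ z, k z ≠ 0 := fun z => left_ne_zero_of_mul_eq_one (h.2.1 z)
  have hne : pl (π x) ≠ pl (π y) := by
    intro e
    rcases pl_eq e with e | e
    · exact hxy (by rw [π.injective e])
    · rw [← h.1] at e; exact hxy (by rw [π.injective e, pl_swap])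
  have iy := eq_inv_of_mul_eq_one_right (h.2.1 y)
  have ix := eq_inv_of_mul_eq_one_right (h.2.1 x)
  rw [mul_inv_eq_iff_eq_mul]
  refine Units.ext (Matrix.ext_of_mulVec_single fun z => ?_)
  rw [Units.val_mul, Units.val_mul, ← mulVec_mulVec, ← mulVec_mulVec, S_single hxy, h.2.2, S_single hne, ← h.1, ← h.1]
  simp only [π.injective.eq_iff, mul_one]
  have hy0 := hkne y
  have hx0 := hkne x
  by_cases h1 : y.swap = z <;> by_cases h2 : x.swap = z
  · exact absurd (by rw [← Sum.swap_swap x, h2, ← h1, Sum.swap_swap]) hxy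
  · subst h1
    simp [h2, mulVec_add, h.mulVec, iy, mul_comm, mul_left_comm, hy0]
    field_simp
  · subst h2
    simp [h1, mulVec_sub, h.mulVec, ix, mul_comm, mul_left_comm, hx0]
    field_simp
  · simp [h1, h2, h.mulVec]

theorem S_comm {x y z w : II l} (h1 : pl x ≠ pl y) (h2 : pl z ≠ pl w) (hxz : x.swap ≠ z) (hxw : x.swap ≠ w)
    (hyz : y.swap ≠ z) (hyw : y.swap ≠ w) (t u : F) : Commute (S x y t) (S z w u) := Units.ext (by
  show (S x y t).1 * (S z w u).1 = (S z w u).1 * (S x y t).1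
  rw [S_val h1, S_val h2, add_mul, mul_add, mul_add, add_mul, mul_add, mul_add, nil_mul hyz hyw hxz hxw,
    nil_mul (fun e => hxw (by rw [← e, Sum.swap_swap])) (fun e => hyw (by rw [← e, Sum.swap_swap]))
      (fun e => hxz (by rw [← e, Sum.swap_swap])) (fun e => hyz (by rw [← e, Sum.swap_swap]))]
  simp; abel)

theorem S_comm_same {x y : II l} (h1 : pl x ≠ pl y) (t u : F) : Commute (S x y t) (S x y.swap u) := Units.ext (by
  show (S x y t).1 * (S x y.swap u).1 = (S x y.swap u).1 * (S x y t).1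
  obtain ⟨a, b⟩ := pl_ne_iff.1 h1
  have c : x.swap ≠ y := fun e => b (by rw [← e, Sum.swap_swap])
  have d : x.swap ≠ y.swap := fun e => a (Sum.swap_leftInverse.injective e)
  rw [S_val h1, S_val (by rw [pl_swap]; exact h1), add_mul, mul_add, mul_add, add_mul, mul_add, mul_add]
  simp only [nil, Matrix.sub_mul, Matrix.mul_sub, Sum.swap_swap, Matrix.single_mul_single_of_ne _ _ _ _ b.symm,
    Matrix.single_mul_single_of_ne _ _ _ _ (swap_ne x), Matrix.single_mul_single_of_ne _ _ _ _ d,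
    Matrix.single_mul_single_of_ne _ _ _ _ a.symm, Matrix.single_mul_single_of_ne _ _ _ _ c,
    Matrix.single_mul_single_same, one_mul, mul_one, mul_comm u t]
  abel)

theorem S_symm {x y : II l} (h : pl x ≠ pl y) (t : F) : S y x t = S x y (-t) := by
  refine Units.ext ?_
  rw [S_val h.symm, S_val h, nil_symm]

theorem levi_mono {h : Matrix.SpecialLinearGroup (Fin (l + 2)) F} {π : Equiv.Perm (Fin (l + 2))}
    {d : Fin (l + 2) → F} (hh : IsMono h π d) : SMono (Fork.levi h) (Equiv.sumCongr π π) (sc d) := by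
  refine ⟨fun z => ?_, fun z => ?_, fun z => ?_⟩
  · rcases z with i | i <;> rfl
  · rcases z with i | i <;> simp [sc, hh.ne_zero i]
  · show Matrix.fromBlocks h.1 0 0 (theta h).1 *ᵥ _ = _
    rcases z with i | i
    · ext (a | a)
      · simpa [Matrix.mulVec_single_one, sc, Pi.single_apply] using hh.apply a i
      · simp [Matrix.mulVec_single_one, sc, Pi.single_apply]
    · ext (a | a)
      · simp [Matrix.mulVec_single_one, sc, Pi.single_apply]
      · simpa [Matrix.mulVec_single_one, sc, Pi.single_apply] using hh.theta.apply a i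

/-- The joining index. -/
def jc (l : ℕ) : Fin (l + 2) := ⟨l - 1, by omega⟩

theorem jc_ia (hl : 1 ≤ l) : jc l ≠ ia l := by
  intro e
  have := congrArg Fin.val e
  simp [jc, ia] at this
  omega

theorem jc_ib : jc l ≠ ib l := by
  intro e
  have := congrArg Fin.val e
  simp [jc, ib] at this


/-- The extra generator in the model. -/
noncomputable def tm (F : Type*) [Field F] [Fintype F] (l : ℕ) : GL (II l) F :=
  S (Sum.inl (jc l)) (Sum.inl (ib l)) (-1) * S (Sum.inr (ib l)) (Sum.inr (jc l)) 1 *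
    S (Sum.inl (jc l)) (Sum.inl (ib l)) (-1)

theorem tm_mono : SMono (tm F l) (Fork.refl (Sum.inl (jc l)) (Sum.inl (ib l)))
    (Fork.reflScal (Sum.inl (jc l)) (Sum.inl (ib l)) (1 : F)) := by
  set p : II l := Sum.inl (jc l) with hp
  set q : II l := Sum.inl (ib l) with hq
  have h : pl p ≠ pl q := jc_ib
  obtain ⟨a, b⟩ := pl_ne_iff.1 h
  have c : p.swap ≠ q := fun e => b (by rw [← e, Sum.swap_swap])
  have d : p.swap ≠ q.swap := fun e => a (Sum.swap_leftInverse.injective e)
  obtain ⟨r1, r2, r3, r4, r5⟩ := Fork.refl_val h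
  obtain ⟨k1, k2, k3, k4⟩ := Fork.scal_val h (1 : F)
  have h' : pl q.swap ≠ pl p.swap := by rw [pl_swap, pl_swap]; exact h.symm
  have cases5 : ∀ z : II l, z = p ∨ z = q.swap ∨ z = p.swap ∨ z = q ∨
      (z ≠ p ∧ z ≠ q.swap ∧ z ≠ p.swap ∧ z ≠ q) := fun z => by tauto
  refine ⟨fun z => ?_, fun z => ?_, fun z => ?_⟩
  · rcases cases5 z with e | e | e | e | ⟨z1, z2, z3, z4⟩
    · rw [e, r1, r3, Sum.swap_swap]
    · rw [e, Sum.swap_swap, r2, r4]
    · rw [e, Sum.swap_swap, r3, r1]
    · rw [e, r2, r4, Sum.swap_swap]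
    · rw [r5 z z1 z2 z3 z4, r5 z.swap (fun e => z3 (by rw [← e, Sum.swap_swap]))
        (fun e => z4 (Sum.swap_leftInverse.injective e)) (fun e => z1 (Sum.swap_leftInverse.injective e))
        (fun e => z2 (by rw [← e, Sum.swap_swap]))]
  · rcases cases5 z with e | e | e | e | ⟨z1, z2, z3, z4⟩
    · rw [e, k1, k3]; simp
    · rw [e, Sum.swap_swap, k2, k4]; simp
    · rw [e, Sum.swap_swap, k3, k1]; simp
    · rw [e, k2, k4]; simp
    · have z1' : z.swap ≠ p.swap := fun e => z1 (Sum.swap_leftInverse.injective e)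
      have z2' : z.swap ≠ q := fun e => z2 (by rw [← e, Sum.swap_swap])
      have z3' : z.swap ≠ p := fun e => z3 (by rw [← e, Sum.swap_swap])
      have z4' : z.swap ≠ q.swap := fun e => z4 (Sum.swap_leftInverse.injective e)
      simp [Fork.reflScal, z1, z2, z3, z4, z1', z2', z3', z4']
  · show ((S p q (-1) * S q.swap p.swap (1 : F) * S p q (-1) : GL (II l) F)).1 *ᵥ _ = _
    rw [Units.val_mul, Units.val_mul, ← mulVec_mulVec, ← mulVec_mulVec]
    have step : ∀ (v : II l) (cc : F), (S p q (-1)).1 *ᵥ Pi.single v cc = Pi.single v cc +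
        (if q.swap = v then Pi.single p (-1 * cc) else 0) - (if p.swap = v then Pi.single q (-1 * cc) else 0) :=
      fun v cc => S_single h _ v cc
    have step' : ∀ (v : II l) (cc : F), (S q.swap p.swap (1 : F)).1 *ᵥ Pi.single v cc = Pi.single v cc +
        (if p = v then Pi.single q.swap (1 * cc) else 0) - (if q = v then Pi.single p.swap (1 * cc) else 0) :=
      fun v cc => by rw [S_single h' _ v cc, Sum.swap_swap, Sum.swap_swap]
    rcases cases5 z with e | e | e | e | ⟨z1, z2, z3, z4⟩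
    · rw [e, r1, k1]
      simp [-Matrix.mulVec_mulVec, step, step', mulVec_add, mulVec_sub, b.symm, swap_ne p, a.symm, d, a]
      all_goals (try simp only [Pi.single_neg, inv_one, inv_neg]); all_goals abel
    · rw [e, r2, k2]
      simp [-Matrix.mulVec_mulVec, step, step', mulVec_add, mulVec_sub, b, b.symm, d, (swap_ne q).symm, swap_ne q, swap_ne p, a, a.symm]
      all_goals (try simp only [Pi.single_neg, inv_one, inv_neg]); all_goals abel
    · rw [e, r3, k3]
      simp [-Matrix.mulVec_mulVec, step, step', mulVec_add, mulVec_sub, d, d.symm, c, c.symm, swap_ne p, (swap_ne p).symm, a.symm, a, (swap_ne q).symm, swap_ne q]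
      all_goals (try simp only [Pi.single_neg, inv_one, inv_neg]); all_goals abel
    · rw [e, r4, k4]
      simp [-Matrix.mulVec_mulVec, step, step', mulVec_add, mulVec_sub, d, d.symm, c, c.symm, swap_ne q, (swap_ne q).symm, a]
      all_goals (try simp only [Pi.single_neg, inv_one, inv_neg]); all_goals abel
    · rw [r5 z z1 z2 z3 z4]
      simp [-Matrix.mulVec_mulVec, step, step', Fork.reflScal, z1, z2, z3, z4, Ne.symm z1, Ne.symm z2, Ne.symm z3, Ne.symm z4]

/-- The model of the second root group. -/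
noncomputable def kapm (hl : 1 ≤ l) : SL2 →* GL (II l) F :=
  (MulAut.conj (tm F l)).toMonoidHom.comp (Fork.levi.comp (emb2 (jc_ia hl).symm))

theorem kapm_ue (hl : 1 ≤ l) (s : F) : kapm hl (ue s) = S (Sum.inl (ia l)) (Sum.inl (ib l)) s := by
  show tm F l * Fork.levi (emb2 (jc_ia hl).symm (ue s)) * (tm F l)⁻¹ = _
  have h : pl (Sum.inl (jc l) : II l) ≠ pl (Sum.inl (ib l) : II l) := jc_ib
  obtain ⟨r1, r2, r3, r4, r5⟩ := Fork.refl_val h
  obtain ⟨k1, k2, k3, k4⟩ := Fork.scal_val h (1 : F)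
  simp only [Sum.swap_inl] at r2 r3 r5 k2 k3
  rw [emb2_ue (jc_ia hl).symm, Fork.levi_tv (jc_ia hl).symm,
    tm_mono.conj_S (show pl (Sum.inl (ia l) : II l) ≠ pl (Sum.inr (jc l) : II l) from (jc_ia hl).symm),
    r3, r5 _ (by simpa using (jc_ia hl).symm) (by simp) (by simp) (by simpa using iab l), k3]
  simp [Fork.reflScal, (jc_ia hl).symm, iab l]

theorem kapm_le (hl : 1 ≤ l) (s : F) : kapm hl (le' s) = S (Sum.inr (ib l)) (Sum.inr (ia l)) s := by
  show tm F l * Fork.levi (emb2 (jc_ia hl).symm (le' s)) * (tm F l)⁻¹ = _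
  have h : pl (Sum.inl (jc l) : II l) ≠ pl (Sum.inl (ib l) : II l) := jc_ib
  obtain ⟨r1, r2, r3, r4, r5⟩ := Fork.refl_val h
  obtain ⟨k1, k2, k3, k4⟩ := Fork.scal_val h (1 : F)
  simp only [Sum.swap_inl] at r1 r2 r3 r4 r5 k2 k3
  rw [emb2_le' (jc_ia hl).symm, Fork.levi_tv (jc_ia hl),
    tm_mono.conj_S (show pl (Sum.inl (jc l) : II l) ≠ pl (Sum.inr (ia l) : II l) from jc_ia hl),
    r1, r5 _ (by simp) (by simpa using iab l) (by simpa using (jc_ia hl).symm) (by simp), k1]
  simp [Fork.reflScal, (jc_ia hl).symm, iab l]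

theorem kapm_comm_pair (hl : 1 ≤ l) (g h : SL2) :
    Commute (kapm hl g) (Fork.levi (emb2 (iab l) h)) := by
  have n : pl (Sum.inl (ia l) : II l) ≠ pl (Sum.inl (ib l) : II l) := iab l
  have n' : pl (Sum.inr (ib l) : II l) ≠ pl (Sum.inr (ia l) : II l) := (iab l).symm
  refine sl2_induction (P := fun g => Commute (kapm hl g) (Fork.levi (emb2 (iab l) h))) (fun s => ?_) (fun s => ?_)
    (by rw [map_one]; exact Commute.one_left _) (fun a b ha hb => by rw [map_mul]; exact ha.mul_left hb)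
    (fun a ha => by rw [map_inv]; exact ha.inv_left) g
  all_goals
    refine sl2_induction (P := fun h => Commute _ (Fork.levi (emb2 (iab l) h))) (fun u => ?_) (fun u => ?_)
      (by rw [map_one, map_one]; exact Commute.one_right _)
      (fun a b ha hb => by rw [map_mul, map_mul]; exact ha.mul_right hb)
      (fun a ha => by rw [map_inv, map_inv]; exact ha.inv_right) h
  · rw [kapm_ue, emb2_ue (iab l), Fork.levi_tv (iab l)]
    exact S_comm_same n s u
  · rw [kapm_ue, emb2_le' (iab l), Fork.levi_tv (iab l).symm,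
      S_symm (show pl (Sum.inl (ia l) : II l) ≠ pl (Sum.inl (ib l) : II l) from n).symm]
    exact S_comm_same n.symm (-s) u
  · rw [kapm_le, emb2_ue (iab l), Fork.levi_tv (iab l),
      S_symm (show pl (Sum.inr (ib l) : II l) ≠ pl (Sum.inl (ia l) : II l) from n.symm)]
    exact S_comm_same n' s (-u)
  · rw [kapm_le, emb2_le' (iab l), Fork.levi_tv (iab l).symm,
      S_symm (show pl (Sum.inr (ia l) : II l) ≠ pl (Sum.inr (ib l) : II l) from n'.symm),
      S_symm (show pl (Sum.inr (ia l) : II l) ≠ pl (Sum.inl (ib l) : II l) from iab l)]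
    exact S_comm_same n'.symm (-s) (-u)

theorem kapm_comm_low (hl : 1 ≤ l) (g : SL2) {p q : Fin (l + 2)} (hpq : p ≠ q) (hp : p ≠ ia l) (hp' : p ≠ ib l)
    (hq : q ≠ ia l) (hq' : q ≠ ib l) (u : F) : Commute (kapm hl g) (Fork.levi (tv' p q u)) := by
  refine sl2_induction (P := fun g => Commute (kapm hl g) (Fork.levi (tv' p q u))) (fun s => ?_) (fun s => ?_)
    (by rw [map_one]; exact Commute.one_left _) (fun a b ha hb => by rw [map_mul]; exact ha.mul_left hb)
    (fun a ha => by rw [map_inv]; exact ha.inv_left) g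
  · rw [kapm_ue, Fork.levi_tv hpq]
    exact S_comm (show pl (Sum.inl (ia l) : II l) ≠ pl (Sum.inl (ib l) : II l) from iab l)
      (show pl (Sum.inl p : II l) ≠ pl (Sum.inr q : II l) from hpq)
      (by simp) (by simpa using hq.symm) (by simp) (by simpa using hq'.symm) s u
  · rw [kapm_le, Fork.levi_tv hpq]
    exact S_comm (show pl (Sum.inr (ib l) : II l) ≠ pl (Sum.inr (ia l) : II l) from (iab l).symm)
      (show pl (Sum.inl p : II l) ≠ pl (Sum.inr q : II l) from hpq)
      (by simpa using hp'.symm) (by simp) (by simpa using hp.symm) (by simp) s u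

theorem kapm_expr (hl : 1 ≤ l) {g : SL2} (hg : g.1 = !![0, 1; -1, 0]) :
    tm F l = Fork.levi (emb2 (jc_ia hl) g) * kapm hl (ue (-1) * le' 1 * ue (-1)) *
      (Fork.levi (emb2 (jc_ia hl) g))⁻¹ := by
  have hm := levi_mono (emb2_anti (jc_ia hl) hg)
  set w := Fork.levi (emb2 (jc_ia hl) g)
  have n : pl (Sum.inl (ia l) : II l) ≠ pl (Sum.inl (ib l) : II l) := iab l
  have n' : pl (Sum.inr (ib l) : II l) ≠ pl (Sum.inr (ia l) : II l) := (iab l).symm
  have e1 : w * S (Sum.inl (ia l)) (Sum.inl (ib l)) (-1) * w⁻¹ = S (Sum.inl (jc l)) (Sum.inl (ib l)) (-1) := by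
    rw [hm.conj_S n]
    simp [sc, (jc_ia hl).symm, Equiv.swap_apply_of_ne_of_ne jc_ib.symm (iab l).symm, jc_ib.symm, (iab l).symm]
  have e2 : w * S (Sum.inr (ib l)) (Sum.inr (ia l)) 1 * w⁻¹ = S (Sum.inr (ib l)) (Sum.inr (jc l)) 1 := by
    rw [hm.conj_S n']
    simp [sc, (jc_ia hl).symm, Equiv.swap_apply_of_ne_of_ne jc_ib.symm (iab l).symm, jc_ib.symm, (iab l).symm]
  rw [map_mul, map_mul, kapm_ue, kapm_le]
  calc tm F l = (w * S (Sum.inl (ia l)) (Sum.inl (ib l)) (-1) * w⁻¹) * (w * S (Sum.inr (ib l)) (Sum.inr (ia l)) 1 * w⁻¹) *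
        (w * S (Sum.inl (ia l)) (Sum.inl (ib l)) (-1) * w⁻¹) := by rw [e1, e2]; rfl
    _ = _ := by group

theorem kapm_neg (hl : 1 ≤ l) : Fork.levi (emb2 (iab l) (-1 : SL2)) * kapm hl (-1) = 1 := by
  have hneg : (-1 : SL2).1 = !![-1, 0; 0, -1] := by ext a b; fin_cases a <;> fin_cases b <;> simp
  have m1 := levi_mono (emb2_diag (iab l) hneg)
  have m2 := levi_mono (emb2_diag (jc_ia hl).symm hneg)
  refine Units.ext (Matrix.ext_of_mulVec_single fun z => ?_)
  show (Fork.levi (emb2 (iab l) (-1 : SL2)) * (tm F l * Fork.levi (emb2 (jc_ia hl).symm (-1 : SL2)) * (tm F l)⁻¹)).1 *ᵥ _ = _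
  obtain ⟨w, rfl⟩ := (Fork.refl (Sum.inl (jc l) : II l) (Sum.inl (ib l))).surjective z
  have hk : Fork.reflScal (Sum.inl (jc l)) (Sum.inl (ib l)) (1 : F) w ≠ 0 := left_ne_zero_of_mul_eq_one (tm_mono.2.1 w)
  have einv : ((tm F l)⁻¹).1 *ᵥ Pi.single (Fork.refl (Sum.inl (jc l)) (Sum.inl (ib l)) w) 1 =
      Pi.single w (Fork.reflScal (Sum.inl (jc l)) (Sum.inl (ib l)) (1 : F) w)⁻¹ := by
    have e := congrArg (((tm F l)⁻¹).1 *ᵥ ·)
      (tm_mono.mulVec w (Fork.reflScal (Sum.inl (jc l)) (Sum.inl (ib l)) (1 : F) w)⁻¹)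
    simp only [mulVec_mulVec, ← Units.val_mul, inv_mul_cancel, Units.val_one, one_mulVec, inv_mul_cancel₀ hk] at e
    exact e.symm
  rw [Units.val_mul, Units.val_mul, Units.val_mul, ← mulVec_mulVec, ← mulVec_mulVec, ← mulVec_mulVec, einv,
    m2.mulVec, tm_mono.mulVec, m1.mulVec, Units.val_one, one_mulVec]
  simp only [Equiv.sumCongr_apply]
  have e0 : ∀ v : II l, Sum.map (⇑(1 : Equiv.Perm (Fin (l + 2)))) (⇑(1 : Equiv.Perm (Fin (l + 2)))) v = v := fun v => by
    rcases v with a | a <;> rfl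
  simp only [e0]
  refine congrArg _ ?_
  obtain ⟨r1, r2, r3, r4, r5⟩ := Fork.refl_val (show pl (Sum.inl (jc l) : II l) ≠ pl (Sum.inl (ib l) : II l) from jc_ib)
  obtain ⟨k1, k2, k3, k4⟩ := Fork.scal_val (show pl (Sum.inl (jc l) : II l) ≠ pl (Sum.inl (ib l) : II l) from jc_ib) (1 : F)
  simp only [Sum.swap_inl] at r1 r2 r3 r4 r5 k1 k2 k3 k4
  have ha := jc_ia hl
  have hb : jc l ≠ ib l := jc_ib
  rcases w with i | i <;> by_cases hic : i = jc l <;> by_cases hib : i = ib l
  all_goals try subst hic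
  all_goals try subst hib
  all_goals first
    | exact absurd rfl hb
    | (simp [sc, r1, r2, r3, r4, k1, k2, k3, k4, ha, ha.symm, hb, hb.symm, iab l, (iab l).symm]; done)
    | (rw [r5 _ (by simp [*]) (by simp [*]) (by simp [*]) (by simp [*])]
       by_cases hia : i = ia l <;> simp [sc, Fork.reflScal, *])

end Cfsg.Agent.Small.OmegaPres
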