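import Cfsg.Agent.Lib.Lie.CTA.DN.Fork
import Cfsg.Agent.Lib.Small.BoundedPres.SLnGen
import Cfsg.Agent.S2278
import Cfsg.Agent.S2279

/-!
Few generators of a product of a rank one group and a special linear group of the same field.
-/

set_option autoImplicit false
set_option linter.unusedSectionVars false
set_option linter.style.haveILetI false

namespace Cfsg.Agent.Small.OmegaPres

open Matrix Cfsg.Agent.Lie.CTA Subgroup
open scoped commutatorElement
open Cfsg.Agent.Lead.SL2Pres Cfsg.Agent.Small.SL3Pres Cfsg.Agent.Small.BoundedPres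

section Abstract

variable {A B : Type*} [Group A] [Group B]

theorem prod_top {H : Subgroup (A × B)} {S : Set A} {T : Set B} (hS : closure S = ⊤) (hT : closure T = ⊤)
    (h1 : ∀ a ∈ S, ((a, 1) : A × B) ∈ H) (h2 : ∀ b ∈ T, ((1, b) : A × B) ∈ H) : H = ⊤ := by
  rw [eq_top_iff]
  rintro ⟨a, b⟩ -
  have ha : ((a, 1) : A × B) ∈ H := by
    have : closure S ≤ H.comap (MonoidHom.inl A B) := (closure_le _).2 h1
    exact this (hS ▸ mem_top a)
  have hb : ((1, b) : A × B) ∈ H := by
    have : closure T ≤ H.comap (MonoidHom.inr A B) := (closure_le _).2 h2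
    exact this (hT ▸ mem_top b)
  simpa using mul_mem ha hb

/-- Coprime orders split two generators of a product with perfect second factor. -/
theorem pair_gen {a1 a2 : A} {y1 y2 : B} (hA : closure ({a1, a2} : Set A) = ⊤)
    (hB : closure ({y1, y2} : Set B) = ⊤) (hperf : commutator B = ⊤) {m : ℕ} (ha : a1 ^ m = 1)
    (hm : m.Coprime (orderOf y1)) :
    closure ({(a1, y1), (a2, y2)} : Set (A × B)) = ⊤ := by
  set H := closure ({(a1, y1), (a2, y2)} : Set (A × B)) with hH
  have m1 : ((a1, y1) : A × B) ∈ H := subset_closure (Or.inl rfl)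
  have m2 : ((a2, y2) : A × B) ∈ H := subset_closure (Or.inr rfl)
  have hy : ((1, y1) : A × B) ∈ H := by
    obtain ⟨j, hj⟩ := exists_pow_eq_self_of_coprime hm
    have e : (((a1, y1) : A × B) ^ m) ^ j = (1, y1) := by simp [Prod.ext_iff, ha, hj]
    exact e ▸ pow_mem (pow_mem m1 m) j
  set N := H.comap (MonoidHom.inr A B) with hN
  have proj : ∀ g : B, ∃ a, (a, g) ∈ H := by
    intro g
    have : closure ({y1, y2} : Set B) ≤ H.map (MonoidHom.snd A B) := by
      rw [closure_le]
      rintro x (rfl | rfl)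
      · exact ⟨_, m1, rfl⟩
      · exact ⟨_, m2, rfl⟩
    obtain ⟨⟨a, g'⟩, ha', rfl⟩ := this (hB ▸ mem_top g)
    exact ⟨a, ha'⟩
  haveI : N.Normal := ⟨fun n hn g => by
    obtain ⟨a, hag⟩ := proj g
    have e : ((1, g * n * g⁻¹) : A × B) = (a, g) * (1, n) * (a, g)⁻¹ := by simp
    show ((1, g * n * g⁻¹) : A × B) ∈ H
    rw [e]
    exact mul_mem (mul_mem hag hn) (inv_mem hag)⟩
  have hq : ∀ g : B, QuotientGroup.mk' N g ∈ zpowers (QuotientGroup.mk' N y2) := by
    intro g
    have : closure ({y1, y2} : Set B) ≤ (zpowers (QuotientGroup.mk' N y2)).comap (QuotientGroup.mk' N) := by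
      rw [closure_le]
      rintro x (rfl | rfl)
      · show QuotientGroup.mk' N x ∈ zpowers _
        rw [show QuotientGroup.mk' N x = 1 from (QuotientGroup.eq_one_iff _).2 hy]
        exact one_mem _
      · exact mem_zpowers _
    exact this (hB ▸ mem_top g)
  have hNtop : N = ⊤ := by
    rw [eq_top_iff, ← hperf, commutator_def, commutator_le]
    intro g _ h _
    rw [← QuotientGroup.eq_one_iff]
    show QuotientGroup.mk' N ⁅g, h⁆ = 1
    rw [map_commutatorElement, commutatorElement_eq_one_iff_mul_comm]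
    obtain ⟨i, hi⟩ := hq g
    obtain ⟨j, hj⟩ := hq h
    exact hi ▸ hj ▸ (zpow_mul_comm _ i j)
  have hin : ∀ b : B, ((1, b) : A × B) ∈ H := fun b => (hNtop ▸ mem_top b : b ∈ N)
  refine prod_top hA hB (fun a ha' => ?_) (fun b _ => hin b)
  rcases ha' with rfl | rfl
  · simpa using mul_mem m1 (inv_mem (hin y1))
  · simpa using mul_mem m2 (inv_mem (hin y2))

/-- Three generators of the square of a group generated by two conjugates up to inversion. -/
theorem triple_gen {u v : A} (hA : closure ({u, v} : Set A) = ⊤) {x : A} (hv : v = x * u⁻¹ * x⁻¹) :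
    closure ({(u, 1), (v, u), (1, v)} : Set (A × A)) = ⊤ := by
  set H := closure ({(u, 1), (v, u), (1, v)} : Set (A × A))
  have m1 : ((u, 1) : A × A) ∈ H := subset_closure (Or.inl rfl)
  have m2 : ((v, u) : A × A) ∈ H := subset_closure (Or.inr (Or.inl rfl))
  have m3 : ((1, v) : A × A) ∈ H := subset_closure (Or.inr (Or.inr rfl))
  obtain ⟨b, hb⟩ : ∃ b, (x, b) ∈ H := by
    have : closure ({u, v} : Set A) ≤ H.map (MonoidHom.fst A A) := by
      rw [closure_le]
      rintro y (rfl | rfl)
      · exact ⟨_, m1, rfl⟩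
      · exact ⟨_, m2, rfl⟩
    obtain ⟨⟨a, b⟩, hab, rfl⟩ := this (hA ▸ mem_top x)
    exact ⟨b, hab⟩
  have hv1 : ((v, 1) : A × A) ∈ H := by
    have := mul_mem (mul_mem hb (inv_mem m1)) (inv_mem hb)
    simpa [hv] using this
  refine prod_top hA hA ?_ ?_
  · rintro a (rfl | rfl)
    exacts [m1, hv1]
  · rintro a (rfl | rfl)
    · simpa using mul_mem (inv_mem hv1) m2
    · exact m3

end Abstract

variable {F : Type*} [Field F] [Fintype F]

local notation "SL2" => Matrix.SpecialLinearGroup (Fin 2) F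

/-- A pair of generators whose first member has order prime to the characteristic. -/
theorem exists_coprime_gen (p : ℕ) [CharP F p] :
    ∃ (b1 b2 : SL2) (m : ℕ), m.Coprime p ∧ b1 ^ m = 1 ∧ closure ({b1, b2} : Set SL2) = ⊤ := by
  obtain ⟨n, hpp, hcard⟩ := FiniteField.card F p
  obtain ⟨u, hu | hu, -, hgen⟩ := exists_sw_gen_ord (F := F)
  · obtain ⟨-, rfl⟩ := hu
    rw [sw_un] at hgen
    have hl : ∀ {H : Subgroup SL2}, un (1 : F) ∈ H → ln (1 : F) ∈ H → H = ⊤ := fun h1 h2 => by
      rw [eq_top_iff, ← hgen, closure_le]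
      rintro x (rfl | rfl)
      exacts [h1, h2]
    by_cases h2 : p = 2
    · subst h2
      have h2F : (2 : F) = 0 := CharTwo.two_eq_zero
      refine ⟨un 1 * ln 1, un 1, 3, by norm_num, ?_, hl (subset_closure (Or.inr rfl)) ?_⟩
      · apply Matrix.SpecialLinearGroup.ext; intro i j
        simp only [pow_succ, pow_zero, one_mul, Matrix.SpecialLinearGroup.coe_mul, Matrix.SpecialLinearGroup.coe_one]
        fin_cases i <;> fin_cases j <;>
          simp [un, ln, Matrix.mul_apply, Fin.sum_univ_two] <;> grobner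
      · have a1 : un (1 : F) * ln 1 ∈ Subgroup.closure ({un 1 * ln 1, un 1} : Set SL2) := Subgroup.subset_closure (Or.inl rfl)
        have a2 : un (1 : F) ∈ Subgroup.closure ({un 1 * ln 1, un 1} : Set SL2) := Subgroup.subset_closure (Or.inr rfl)
        simpa using mul_mem (inv_mem a2) a1
    · refine ⟨tw, un 1, 4, ?_, ?_, hl (subset_closure (Or.inr rfl)) ?_⟩
      · exact (Nat.Coprime.pow_left 2 ((Nat.coprime_primes Nat.prime_two hpp).2 (Ne.symm h2)) : Nat.Coprime (2 ^ 2) p)
      · apply Matrix.SpecialLinearGroup.ext; intro i j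
        simp only [pow_succ, pow_zero, one_mul, Matrix.SpecialLinearGroup.coe_mul, Matrix.SpecialLinearGroup.coe_one]
        fin_cases i <;> fin_cases j <;> simp [tw, Matrix.mul_apply, Fin.sum_univ_two]
      · have e : ln (1 : F) = tw * (un 1)⁻¹ * tw⁻¹ := by
          rw [← un_neg, eq_mul_inv_iff_mul_eq]
          apply Matrix.SpecialLinearGroup.ext; intro i j
          simp only [Matrix.SpecialLinearGroup.coe_mul]
          fin_cases i <;> fin_cases j <;> simp [ln, un, tw, Matrix.mul_apply, Fin.sum_univ_two]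
        rw [e]
        exact mul_mem (mul_mem (subset_closure (Or.inl rfl)) (inv_mem (subset_closure (Or.inr rfl))))
          (inv_mem (subset_closure (Or.inl rfl)))
  · refine ⟨u, sw u, Fintype.card F - 1, ?_, hu, hgen⟩
    rw [hcard, Nat.coprime_comm, hpp.coprime_iff_not_dvd]
    intro h
    obtain ⟨a, ha⟩ := dvd_pow_self p n.pos.ne'
    obtain ⟨b, hb⟩ := h
    have h1 : 0 < p ^ (n : ℕ) := pow_pos hpp.pos _
    have : p ∣ 1 := (Nat.dvd_add_right ⟨b, hb⟩).1 (show p ∣ (p ^ (n : ℕ) - 1) + 1 by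
      rw [Nat.sub_add_cancel h1]; exact ⟨a, ha⟩)
    exact hpp.one_lt.ne' (Nat.dvd_one.1 this)

/-- A unipotent element has order a power of the characteristic. -/
theorem unipotent_pow {p : ℕ} [CharP F p] (hpp : p.Prime) {k : ℕ}
    {y : Matrix.SpecialLinearGroup (Fin k) F} (hy : IsNilpotent ((y : Matrix (Fin k) (Fin k) F) - 1)) :
    ∃ e, orderOf y ∣ p ^ e := by
  rcases Nat.eq_zero_or_pos k with rfl | hk
  · exact ⟨0, by rw [orderOf_eq_one_iff.2 (Subsingleton.elim y 1)]; exact one_dvd _⟩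
  haveI : Fact p.Prime := ⟨hpp⟩
  haveI : Nonempty (Fin k) := ⟨⟨0, hk⟩⟩
  obtain ⟨e, he⟩ := hy
  refine ⟨e, orderOf_dvd_of_pow_eq_one ?_⟩
  apply Subtype.ext
  have h0 : ((y : Matrix (Fin k) (Fin k) F) - 1) ^ (p ^ e) = 0 :=
    pow_eq_zero_of_le (Nat.lt_pow_self hpp.one_lt).le he
  rw [sub_pow_char_pow_of_commute _ _ (Commute.one_right _), one_pow, sub_eq_zero] at h0
  rw [Matrix.SpecialLinearGroup.coe_pow, h0, Matrix.SpecialLinearGroup.coe_one]

variable {l : ℕ}

/-- The complementary special linear group. -/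
def lowEmb (l : ℕ) : Matrix.SpecialLinearGroup (Fin l) F →* Matrix.SpecialLinearGroup (Fin (l + 2)) F :=
  embLast.comp embLast

theorem lowEmb_tv {i j : Fin l} (h : i ≠ j) (t : F) :
    lowEmb l (tv' i j t) = tv' i.castSucc.castSucc j.castSucc.castSucc t := by
  have h' : i.castSucc ≠ j.castSucc := fun e => h (Fin.castSucc_injective _ e)
  show embLast (embLast (tv' i j t)) = _
  rw [embLast_tv' h, embLast_tv' h']

theorem low_ne (i : Fin l) : (i.castSucc.castSucc : Fin (l + 2)) ≠ ia l ∧ i.castSucc.castSucc ≠ ib l := by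
  have := i.isLt
  constructor <;> intro e <;> have := congrArg Fin.val e <;> simp [ia, ib] at this <;> omega

theorem low_comm (hl : 2 ≤ l) (g : SL2) (h : Matrix.SpecialLinearGroup (Fin l) F) :
    Commute (emb2 (iab l) g) (lowEmb l h) := by
  haveI : Nontrivial (Fin l) := Fin.nontrivial_iff_two_le.2 hl
  have hh : h ∈ closure {g : Matrix.SpecialLinearGroup (Fin l) F |
      ∃ (i j : Fin l) (h : i ≠ j) (c : F), g = Matrix.SpecialLinearGroup.transvection h c} := by
    rw [Cfsg.Agent.Classical.sl_closure_transvections]; exact mem_top h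
  induction hh using Subgroup.closure_induction with
  | mem x hx =>
    obtain ⟨i, j, hij, c, rfl⟩ := hx
    rw [show Matrix.SpecialLinearGroup.transvection hij c = tv' i j c by rw [tv', dif_pos hij], lowEmb_tv hij]
    have n := (Fin.castSucc_injective _).ne ((Fin.castSucc_injective _).ne hij)
    obtain ⟨i1, i2⟩ := low_ne i
    obtain ⟨j1, j2⟩ := low_ne j
    refine sl2_induction (P := fun g => Commute (emb2 (iab l) g) _) (fun t => ?_) (fun t => ?_)
      (by rw [map_one]; exact Commute.one_left _) (fun a b ha hb => by rw [map_mul]; exact ha.mul_left hb)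
      (fun a ha => by rw [map_inv]; exact ha.inv_left) g
    · rw [emb2_ue (iab l)]; exact tv'_comm (iab l) n j1.symm i2.symm t c
    · rw [emb2_le' (iab l)]; exact tv'_comm (iab l).symm n j2.symm i1.symm t c
  | one => rw [map_one]; exact Commute.one_right _
  | mul a b _ _ ha hb => rw [map_mul]; exact ha.mul_right hb
  | inv a _ ha => rw [map_inv]; exact ha.inv_right

/-- The last pair times the complementary block. -/
def blk (hl : 2 ≤ l) : SL2 × Matrix.SpecialLinearGroup (Fin l) F →* Matrix.SpecialLinearGroup (Fin (l + 2)) F :=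
  MonoidHom.noncommCoprod (emb2 (iab l)) (lowEmb l) (low_comm hl)

/-- Two generators of the block product, three for the smallest degree. -/
theorem exists_blk_gens (hl : 2 ≤ l) :
    ∃ S : Finset (SL2 × Matrix.SpecialLinearGroup (Fin l) F),
      S.card ≤ (if l = 2 then 3 else 2) ∧ closure (S : Set (SL2 × Matrix.SpecialLinearGroup (Fin l) F)) = ⊤ := by
  classical
  by_cases h2 : l = 2
  · subst h2
    obtain ⟨u, -, ⟨x, hx⟩, hgen⟩ := exists_sw_gen_ord (F := F)
    refine ⟨{(u, 1), (sw u, u), (1, sw u)}, ?_, ?_⟩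
    · rw [if_pos rfl]; exact Finset.card_le_three
    · simpa using triple_gen hgen hx
  obtain ⟨p, hp⟩ := CharP.exists F
  haveI := hp
  obtain ⟨n, hpp, hcard⟩ := FiniteField.card F p
  obtain ⟨b1, b2, m, hm, hb, hbgen⟩ := exists_coprime_gen (F := F) p
  obtain ⟨y1, y2, hy, hygen⟩ : ∃ y1 y2 : Matrix.SpecialLinearGroup (Fin l) F,
      IsNilpotent ((y1 : Matrix (Fin l) (Fin l) F) - 1) ∧
        closure ({y1, y2} : Set (Matrix.SpecialLinearGroup (Fin l) F)) = ⊤ := by
    by_cases h3 : l = 3
    · subst h3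
      obtain ⟨u, g, h1, -, h⟩ := Cfsg.Agent.S2278.result (F := F)
      exact ⟨u, _, h1, h⟩
    · obtain ⟨⟨u, v, ⟨h1, -⟩, -, h⟩, -⟩ := Cfsg.Agent.S2279.result (F := F) l (by omega)
      exact ⟨u, v, h1, h⟩
  obtain ⟨e, he⟩ := unipotent_pow hpp hy
  refine ⟨{(b1, y1), (b2, y2)}, ?_, ?_⟩
  · rw [if_neg h2]; exact Finset.card_le_two
  · simpa using pair_gen hbgen hygen (Cfsg.Agent.Classical.sl_commutator_eq_top (by rw [Fintype.card_fin]; omega))
      hb ((hm.pow_right e).coprime_dvd_right he)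

end Cfsg.Agent.Small.OmegaPres
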