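import Cfsg.Agent.Lib.Lie.CTA.Model
import Cfsg.Agent.Lib.Lie.CTA.AN
import Cfsg.Agent.Lib.Small.OmegaPres.Model
import Cfsg.Agent.Lib.Small.OmegaPres.SemiGen

/-!
A group generated by a special linear group and one further element subject to a few conditions is the
commutator subgroup of the orthogonal group of plus type.
-/

set_option autoImplicit false
set_option linter.unusedSectionVars false
set_option linter.unusedSimpArgs false
set_option linter.style.haveILetI false

namespace Cfsg.Agent.Small.OmegaPres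

open Matrix Cfsg.Agent.Lie.CTA
open Cfsg.Agent.Lie.PlusGen (pl pl_swap gens)

variable {F : Type*} [Field F] [Fintype F] {G : Type*} [Group G] {l : ℕ}

local notation "SL2" => Matrix.SpecialLinearGroup (Fin 2) F
local notation "SL3" => Matrix.SpecialLinearGroup (Fin 3) F

/-- The standard monomial element. -/
def J2 (F : Type*) [Field F] : Matrix.SpecialLinearGroup (Fin 2) F := ⟨!![0, 1; -1, 0], by simp [det_fin_two_of]⟩

theorem J2_val : (J2 F).1 = !![0, 1; -1, 0] := rfl

theorem two_one (hl : 2 ≤ l) : 1 ≤ l := by omega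

/-- The conjugate of a root group by the further element. -/
def kapG (hl : 2 ≤ l) (Φ : Matrix.SpecialLinearGroup (Fin (l + 2)) F →* G) (t : G) : SL2 →* G :=
  (MulAut.conj t).toMonoidHom.comp (Φ.comp (emb2 (jc_ia (two_one hl)).symm))

/-- The conditions on the further element. -/
structure Gluing (F : Type*) [Field F] [Fintype F] (G : Type*) [Group G] (l : ℕ) where
  two : 2 ≤ l
  Φ : Matrix.SpecialLinearGroup (Fin (l + 2)) F →* G
  t : G
  comm : ∀ g z, Commute (kapG two Φ t g) (Φ (blk two z))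
  expr : t = Φ (emb2 (jc_ia (two_one two)) (J2 F)) * kapG two Φ t (ue (-1) * le' 1 * ue (-1)) *
    (Φ (emb2 (jc_ia (two_one two)) (J2 F)))⁻¹
  neg : Φ (emb2 (iab l) (-1)) * kapG two Φ t (-1) = 1
  gen : Subgroup.closure (Set.range Φ ∪ {t}) = ⊤
  π : G →* GL (II l) F
  π_Φ : ∀ g, π (Φ g) = Fork.levi g
  π_t : π t = tm F l

namespace Gluing

variable (D : Gluing F G l)

/-- The second root group. -/
def kap : SL2 →* G := kapG D.two D.Φ D.t

theorem comm_pair (g h : SL2) : Commute (D.kap g) (D.Φ (emb2 (iab l) h)) := by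
  have := D.comm g (h, 1)
  simpa [blk, kap] using this

theorem comm_low (g : SL2) (h : Matrix.SpecialLinearGroup (Fin l) F) : Commute (D.kap g) (D.Φ (lowEmb l h)) := by
  have := D.comm g (1, h)
  simpa [blk, kap] using this

theorem conj_emb (h : SL2) :
    emb2 (jc_ia (two_one D.two)) (J2 F) * emb2 (iab l) h * (emb2 (jc_ia (two_one D.two)) (J2 F))⁻¹ =
      emb2 (jc_ib (l := l)) h := by
  have ha := jc_ia (two_one D.two)
  have hb : jc l ≠ ib l := jc_ib
  have hm := emb2_anti ha (J2_val (F := F))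
  have e : (MulAut.conj (emb2 ha (J2 F))).toMonoidHom.comp (emb2 (iab l)) = emb2 hb := by
    refine sl2_hom_ext (fun s => ?_) (fun s => ?_)
    · simp only [MonoidHom.comp_apply, MulEquiv.coe_toMonoidHom, MulAut.conj_apply]
      rw [emb2_ue (iab l), emb2_ue hb, hm.conj_tv (iab l)]
      simp [Equiv.swap_apply_right, Equiv.swap_apply_of_ne_of_ne hb.symm (iab l).symm, ha.symm, hb.symm, (iab l).symm]
    · simp only [MonoidHom.comp_apply, MulEquiv.coe_toMonoidHom, MulAut.conj_apply]
      rw [emb2_le' (iab l), emb2_le' hb, hm.conj_tv (iab l).symm]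
      simp [Equiv.swap_apply_right, Equiv.swap_apply_of_ne_of_ne hb.symm (iab l).symm, ha.symm, hb.symm, (iab l).symm]
  exact DFunLike.congr_fun e h

theorem t_comm (h : SL2) : Commute D.t (D.Φ (emb2 (jc_ib (l := l)) h)) := by
  rw [← D.conj_emb h, map_mul, map_mul, map_inv, D.expr]
  exact (D.comm_pair (ue (-1) * le' 1 * ue (-1)) h).map
    (MulAut.conj (D.Φ (emb2 (jc_ia (two_one D.two)) (J2 F)))).toMonoidHom

/-- Coordinates of the auxiliary block of degree three. -/
def ι3 (l : ℕ) : Fin 3 → Fin (l + 2) := ![ib l, jc l, ia l]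

theorem ι3_inj (hl : 2 ≤ l) {i j : Fin 3} (h : i ≠ j) : ι3 l i ≠ ι3 l j := by
  have ha := jc_ia (two_one hl)
  have hb : jc l ≠ ib l := jc_ib
  have hc := iab l
  fin_cases i <;> fin_cases j <;>
    first | exact absurd rfl h | exact ha | exact ha.symm | exact hb | exact hb.symm | exact hc | exact hc.symm

/-- Signs of the auxiliary block. -/
def s3 (F : Type*) [Field F] : Fin 3 → F := ![-1, 1, -1]

theorem s3_sq (i : Fin 3) : s3 F i * s3 F i = 1 := by fin_cases i <;> simp [s3]

theorem exists_block3 (hl : 2 ≤ l) :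
    ∃ X : SL3 →* Matrix.SpecialLinearGroup (Fin (l + 2)) F,
      ∀ i j : Fin 3, i ≠ j → ∀ t, X (tv' i j t) = tv' (ι3 l j) (ι3 l i) (-(s3 F i * s3 F j) * t) := by
  refine hom_of_rels le_rfl (fun i j t => tv' (ι3 l j) (ι3 l i) (-(s3 F i * s3 F j) * t)) ?_ ?_ ?_
  · intro i j h t u
    rw [tv'_add (ι3_inj hl h.symm), mul_add]
  · intro i j k m h1 h2 h3 h4 t u
    exact tv'_comm (ι3_inj hl h1.symm) (ι3_inj hl h2.symm) (ι3_inj hl h4) (ι3_inj hl h3) _ _
  · intro i j m h1 h2 h3 t u
    have e := tv'_comm3 (ι3_inj hl h2.symm) (ι3_inj hl h1.symm) (ι3_inj hl h3.symm)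
      (-(s3 F j * s3 F m) * u) (-(s3 F i * s3 F j) * t)
    have es : -(s3 F j * s3 F m) * u * (-(s3 F i * s3 F j) * t) = s3 F i * s3 F m * (t * u) := by
      linear_combination (s3 F i * s3 F m * t * u) * s3_sq (F := F) j
    rw [es] at e
    have hinv : tv' (ι3 l m) (ι3 l i) (-(s3 F i * s3 F m) * (t * u)) =
        (tv' (ι3 l m) (ι3 l i) (s3 F i * s3 F m * (t * u)))⁻¹ := by
      rw [tv'_inv (ι3_inj hl h3.symm), neg_mul]
    rw [hinv]
    calc _ = (tv' (ι3 l m) (ι3 l i) (s3 F i * s3 F m * (t * u)))⁻¹ *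
          (tv' (ι3 l m) (ι3 l i) (s3 F i * s3 F m * (t * u)) * tv' (ι3 l j) (ι3 l i) (-(s3 F i * s3 F j) * t) *
            tv' (ι3 l m) (ι3 l j) (-(s3 F j * s3 F m) * u)) := by group
      _ = _ := by rw [← e]; group

theorem last_edge : ∃ ψ : SL3 →* G, ψ.comp b12 = D.Φ.comp (emb2 (jc_ia (two_one D.two))) ∧ ψ.comp b23 = D.kap := by
  obtain ⟨X, hX⟩ := exists_block3 (F := F) D.two
  have ha := jc_ia (two_one D.two)
  have hb : jc l ≠ ib l := jc_ib
  set w := emb2 (iab l) (J2 F) with hw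
  refine ⟨(MulAut.conj (D.Φ w * D.t)).toMonoidHom.comp (D.Φ.comp X), ?_, ?_⟩
  · have hwm := emb2_anti (iab l) (J2_val (F := F))
    have e1 : ∀ h : SL2, D.Φ w * D.t * D.Φ (emb2 hb h) * (D.Φ w * D.t)⁻¹ = D.Φ (w * emb2 hb h * w⁻¹) := fun h => by
      calc _ = D.Φ w * (D.t * D.Φ (emb2 hb h)) * D.t⁻¹ * (D.Φ w)⁻¹ := by group
        _ = D.Φ w * D.Φ (emb2 hb h) * (D.Φ w)⁻¹ := by rw [(D.t_comm h).eq]; group
        _ = _ := by rw [map_mul, map_mul, map_inv]
    refine sl2_hom_ext (fun s => ?_) (fun s => ?_)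
    · simp only [MonoidHom.comp_apply, MulEquiv.coe_toMonoidHom, MulAut.conj_apply]
      rw [show b12 (ue s) = tv' (0 : Fin 3) 1 s from emb2_ue _ s, hX 0 1 (by decide), show tv' (ι3 l 1) (ι3 l 0) (-(s3 F 0 * s3 F 1) * s) = emb2 hb (ue s) by
        rw [emb2_ue hb]; simp [ι3, s3], e1, emb2_ue hb, emb2_ue ha, hwm.conj_tv hb]
      simp [Equiv.swap_apply_right, Equiv.swap_apply_of_ne_of_ne ha hb, ha, hb, (iab l).symm]
    · simp only [MonoidHom.comp_apply, MulEquiv.coe_toMonoidHom, MulAut.conj_apply]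
      rw [show b12 (le' s) = tv' (1 : Fin 3) 0 s from emb2_le' _ s, hX 1 0 (by decide),
        show tv' (ι3 l 0) (ι3 l 1) (-(s3 F 1 * s3 F 0) * s) = emb2 hb (le' s) by
          rw [emb2_le' hb]; simp [ι3, s3], e1, emb2_le' hb, emb2_le' ha, hwm.conj_tv hb.symm]
      simp [Equiv.swap_apply_right, Equiv.swap_apply_of_ne_of_ne ha hb, ha, hb, (iab l).symm]
  · have e1 : ∀ g : SL2, D.Φ w * D.t * D.Φ (emb2 ha.symm g) * (D.Φ w * D.t)⁻¹ = D.kap g := fun g => by
      calc _ = D.Φ w * D.kap g * (D.Φ w)⁻¹ := by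
            show _ = D.Φ w * (D.t * D.Φ (emb2 ha.symm g) * D.t⁻¹) * (D.Φ w)⁻¹
            group
        _ = _ := by rw [hw, ← (D.comm_pair g (J2 F)).eq]; group
    refine sl2_hom_ext (fun s => ?_) (fun s => ?_)
    · simp only [MonoidHom.comp_apply, MulEquiv.coe_toMonoidHom, MulAut.conj_apply]
      rw [show b23 (ue s) = tv' (1 : Fin 3) 2 s from emb2_ue _ s, hX 1 2 (by decide), show tv' (ι3 l 2) (ι3 l 1) (-(s3 F 1 * s3 F 2) * s) = emb2 ha.symm (ue s) by
        rw [emb2_ue ha.symm]; simp [ι3, s3]]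
      exact e1 _
    · simp only [MonoidHom.comp_apply, MulEquiv.coe_toMonoidHom, MulAut.conj_apply]
      rw [show b23 (le' s) = tv' (2 : Fin 3) 1 s from emb2_le' _ s, hX 2 1 (by decide),
        show tv' (ι3 l 1) (ι3 l 2) (-(s3 F 2 * s3 F 1) * s) = emb2 ha.symm (le' s) by
          rw [emb2_le' ha.symm]; simp [ι3, s3]]
      exact e1 _

theorem tv_comm_disjoint {i j p q : Fin (l + 2)} (h : i ≠ j) (h' : p ≠ q) (a1 : i ≠ p) (a2 : i ≠ q) (a3 : j ≠ p)
    (a4 : j ≠ q) (g k : SL2) : Commute (emb2 h g) (emb2 h' k) := by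
  refine sl2_induction (P := fun g => Commute (emb2 h g) (emb2 h' k)) (fun s => ?_) (fun s => ?_)
    (by rw [map_one]; exact Commute.one_left _) (fun a b ha hb => by rw [map_mul]; exact ha.mul_left hb)
    (fun a ha => by rw [map_inv]; exact ha.inv_left) g
  all_goals
    refine sl2_induction (P := fun k => Commute _ (emb2 h' k)) (fun u => ?_) (fun u => ?_)
      (by rw [map_one]; exact Commute.one_right _) (fun a b ha hb => by rw [map_mul]; exact ha.mul_right hb)
      (fun a ha => by rw [map_inv]; exact ha.inv_right) k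
    all_goals
      simp only [emb2_ue h, emb2_le' h, emb2_ue h', emb2_le' h']
      first
        | exact tv'_comm h h' a2 a3 s u
        | exact tv'_comm h h'.symm a1 a4 s u
        | exact tv'_comm h.symm h' a4 a1 s u
        | exact tv'_comm h.symm h'.symm a3 a2 s u

/-- The chain of the second branch. -/
def node (i : Fin (l + 1)) : SL2 →* G := if i.val = l then D.kap else D.Φ.comp (emb2 (step_ne i))

theorem node_comm (i j : Fin (l + 1)) (h : i.val + 1 < j.val) (g k : SL2) : Commute (D.node i g) (D.node j k) := by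
  have := j.isLt
  unfold node
  rw [if_neg (show i.val ≠ l by omega)]
  by_cases hj : j.val = l
  · rw [if_pos hj]
    have hi : i.val + 1 < l := by omega
    let a : Fin l := ⟨i.val, by omega⟩
    let b : Fin l := ⟨i.val + 1, hi⟩
    have hab : a ≠ b := fun e => by simpa [a, b] using congrArg Fin.val e
    have ea : a.castSucc.castSucc = i.castSucc := Fin.ext rfl
    have eb : b.castSucc.castSucc = i.succ := Fin.ext rfl
    have e : (lowEmb l).comp (emb2 hab) = (emb2 (step_ne i) : SL2 →* _) := by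
      refine sl2_hom_ext (fun s => ?_) (fun s => ?_)
      · rw [MonoidHom.comp_apply, emb2_ue hab, lowEmb_tv hab, emb2_ue (step_ne i), ea, eb]
      · rw [MonoidHom.comp_apply, emb2_le' hab, lowEmb_tv hab.symm, emb2_le' (step_ne i), ea, eb]
    rw [← e]
    exact (D.comm_low k _).symm
  · rw [if_neg hj]
    refine (tv_comm_disjoint (step_ne i) (step_ne j) ?_ ?_ ?_ ?_ g k).map D.Φ <;>
      intro e <;> have := congrArg Fin.val e <;> simp at this <;> omega

theorem node_edge (i j : Fin (l + 1)) (h : i.val + 1 = j.val) :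
    ∃ ψ : SL3 →* G, ψ.comp b12 = D.node i ∧ ψ.comp b23 = D.node j := by
  have := j.isLt
  unfold node
  rw [if_neg (show i.val ≠ l by omega)]
  by_cases hj : j.val = l
  · rw [if_pos hj]
    obtain ⟨ψ, h1, h2⟩ := D.last_edge
    refine ⟨ψ, h1.trans ?_, h2⟩
    have ei : i.castSucc = jc l := Fin.ext (by simp [jc]; omega)
    have ej : i.succ = ia l := Fin.ext (by simp [ia]; omega)
    refine congrArg D.Φ.comp (sl2_hom_ext (fun s => ?_) (fun s => ?_))
    · rw [emb2_ue, emb2_ue, ei, ej]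
    · rw [emb2_le', emb2_le', ei, ej]
  · rw [if_neg hj]
    let σ : Fin 3 → Fin (l + 2) := ![i.castSucc, i.succ, j.succ]
    have e1 : i.succ = j.castSucc := Fin.ext (by simp; omega)
    have hσ : Function.Injective σ := by
      intro a b e
      have := congrArg Fin.val e
      fin_cases a <;> fin_cases b <;> simp [σ] at this <;> first | rfl | omega
    obtain ⟨Ψ, hΨ⟩ := hom_of_rels (F := F) (n := 3) le_rfl (fun a b t => tv' (σ a) (σ b) t)
      (fun a b h t u => tv'_add (hσ.ne h) t u)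
      (fun a b c d h1 h2 h3 h4 t u => tv'_comm (hσ.ne h1) (hσ.ne h2) (hσ.ne h3) (hσ.ne h4) t u)
      (fun a b c h1 h2 h3 t u => tv'_comm3 (hσ.ne h1) (hσ.ne h2) (hσ.ne h3) t u)
    refine ⟨D.Φ.comp Ψ, (MonoidHom.comp_assoc _ _ _).trans (congrArg D.Φ.comp (sl2_hom_ext (fun s => ?_) (fun s => ?_))),
      (MonoidHom.comp_assoc _ _ _).trans (congrArg D.Φ.comp (sl2_hom_ext (fun s => ?_) (fun s => ?_)))⟩
    · rw [MonoidHom.comp_apply, show b12 (ue s) = tv' (0 : Fin 3) 1 s from emb2_ue _ s, hΨ 0 1 (by decide), emb2_ue]; rfl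
    · rw [MonoidHom.comp_apply, show b12 (le' s) = tv' (1 : Fin 3) 0 s from emb2_le' _ s, hΨ 1 0 (by decide),
        emb2_le']; rfl
    · rw [MonoidHom.comp_apply, show b23 (ue s) = tv' (1 : Fin 3) 2 s from emb2_ue _ s, hΨ 1 2 (by decide), emb2_ue, ← e1]; rfl
    · rw [MonoidHom.comp_apply, show b23 (le' s) = tv' (2 : Fin 3) 1 s from emb2_le' _ s, hΨ 2 1 (by decide),
        emb2_le', ← e1]; rfl

theorem exists_fork : ∃ K : Fork F G l, K.Φ = D.Φ ∧ ∀ h, K.Φ' (emb2 (iab l) h) = D.kap h := by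
  obtain ⟨Φ', hΦ'⟩ := an_hom (n := l + 1) D.node D.node_edge D.node_comm (l + 1) (by have := D.two; omega) le_rfl
  have nΦ' : ∀ i : Fin (l + 1), Φ'.comp (emb2 (step_ne i)) = D.node i := fun i => hΦ' i i.isLt
  have hlast : ∀ h, Φ' (emb2 (iab l) h) = D.kap h := fun h => by
    have := DFunLike.congr_fun (nΦ' (Fin.last l)) h
    rw [node, if_pos (Fin.val_last l)] at this
    exact this
  refine ⟨{ two := D.two, Φ := D.Φ, Φ' := Φ', agree := ?_, comm := fun g h => ?_ }, rfl, hlast⟩
  · intro p q hp hq t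
    refine agree_tv D.Φ Φ' (l + 1) (fun p q hp hq hpq t => ?_) p q ?_ ?_ t
    · rcases hpq with h | h
      · have ep : p = (⟨q.val, hq⟩ : Fin (l + 1)).succ := Fin.ext h
        have eq : q = (⟨q.val, hq⟩ : Fin (l + 1)).castSucc := Fin.ext rfl
        have e := DFunLike.congr_fun (nΦ' ⟨q.val, hq⟩) (le' t)
        rw [node, if_neg (show q.val ≠ l by omega), MonoidHom.comp_apply, MonoidHom.comp_apply,
          emb2_le' (step_ne ⟨q.val, hq⟩), ← eq, ← ep] at e
        exact e.symm
      · have eq : q = (⟨p.val, hp⟩ : Fin (l + 1)).succ := Fin.ext h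
        have ep : p = (⟨p.val, hp⟩ : Fin (l + 1)).castSucc := Fin.ext rfl
        have e := DFunLike.congr_fun (nΦ' ⟨p.val, hp⟩) (ue t)
        rw [node, if_neg (show p.val ≠ l by omega), MonoidHom.comp_apply, MonoidHom.comp_apply,
          emb2_ue (step_ne ⟨p.val, hp⟩), ← eq, ← ep] at e
        exact e.symm
    · have := Fin.val_ne_of_ne hp; have := p.isLt; simp [ib] at *; omega
    · have := Fin.val_ne_of_ne hq; have := q.isLt; simp [ib] at *; omega
  · rw [hlast]; exact (D.comm_pair h g).symm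

theorem π_kap (g : SL2) : D.π (D.kap g) = kapm (two_one D.two) g := by
  show D.π (D.t * D.Φ (emb2 _ g) * D.t⁻¹) = tm F l * Fork.levi (emb2 _ g) * (tm F l)⁻¹
  rw [map_mul, map_mul, map_inv, D.π_Φ, D.π_t]

/-- The root elements map to the matrix root elements. -/
theorem π_X (K : Fork F G l) (hK : K.Φ = D.Φ) (hK' : ∀ h, K.Φ' (emb2 (iab l) h) = D.kap h) {z w : II l}
    (hzw : pl z ≠ pl w) (t : F) : D.π (K.X z w t) = S z w t := by
  have mono : ∀ (K' : Fork F G l) (lv : Matrix.SpecialLinearGroup (Fin (l + 2)) F →* GL (II l) F) (a : Fin (l + 2) → II l),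
      (∀ g, D.π (K'.Φ g) = lv g) → D.π (K'.φ 1) = S (a (ia l)) (a (ib l)) 1 →
      (∀ i j : Fin (l + 2), i ≠ j → pl (a i) ≠ pl (a j)) →
      (∀ (g : Matrix.SpecialLinearGroup (Fin (l + 2)) F) π d, IsMono g π d → ∀ i j, i ≠ j →
        lv g * S (a i) (a j) 1 * (lv g)⁻¹ = S (a (π i)) (a (π j)) (d i * d j)) →
      ∀ i j, i ≠ j → ∀ t, D.π (K'.n2 i j t) = S (a i) (a j) t := by
    intro K' lv a hlv hφ ha hconj i j hij t
    rcases eq_or_ne t 0 with rfl | ht
    · rw [K'.n2_zero, map_one]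
      refine Units.ext ?_
      rw [S_val (ha i j hij), Units.val_one]; simp [nil]
    obtain ⟨g, π, d, hg, h1, h2⟩ := K'.exists_lift hij ht one_ne_zero
    have single : ∀ (c : Fin (l + 2)) (i : Fin (l + 2)) (x : F), g.1 *ᵥ Pi.single c 1 = Pi.single i x →
        π c = i ∧ d c = x := by
      intro c i x h
      have e := (hg c).symm.trans h
      have e1 : π c = i := by
        by_contra hc
        have := congrFun e (π c)
        rw [Pi.single_eq_same, Pi.single_eq_of_ne hc] at this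
        exact hg.ne_zero c this
      exact ⟨e1, by rw [e1] at e; exact Pi.single_injective _ e⟩
    obtain ⟨p1, d1⟩ := single _ _ _ h1
    obtain ⟨p2, d2⟩ := single _ _ _ h2
    rw [Fork.n2, K'.ν_eq h1 h2, map_mul, map_mul, map_inv, hlv, hφ, hconj g π d hg _ _ (iab l), p1, p2, d1, d2, mul_one]
  have hlv : ∀ g, D.π (K.Φ g) = Fork.levi g := fun g => by rw [hK]; exact D.π_Φ g
  have hu : ∀ s, D.π (K.Φ' (tv' (ia l) (ib l) s)) = S (Sum.inl (ia l)) (Sum.inl (ib l)) s := fun s => by
    rw [← emb2_ue (iab l), hK', D.π_kap, kapm_ue]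
  have hd : ∀ s, D.π (K.Φ' (tv' (ib l) (ia l) s)) = S (Sum.inr (ib l)) (Sum.inr (ia l)) s := fun s => by
    rw [← emb2_le' (iab l), hK', D.π_kap, kapm_le]
  rcases z with i | i <;> rcases w with j | j <;> simp only [pl, Sum.elim_inl, Sum.elim_inr, id] at hzw
  · show D.π (K.n2 i j t) = _
    refine mono K Fork.levi Sum.inl hlv (hu 1) (fun i j h => h) ?_ i j hzw t
    intro g π d hg i j hij
    rw [(levi_mono hg).conj_S (show pl (Sum.inl i : II l) ≠ pl (Sum.inl j : II l) from hij)]
    simp [sc]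
  · show D.π (K.Φ (tv' i j t)) = _
    rw [hlv, Fork.levi_tv hzw]
  · show D.π (K.Φ (tv' j i (-t))) = _
    rw [hlv, Fork.levi_tv hzw.symm, S_symm (show pl (Sum.inl j : II l) ≠ pl (Sum.inr i : II l) from hzw.symm)]
  · show D.π (K.dual.n2 i j t) = _
    refine mono K.dual (Fork.levi.comp theta) Sum.inr (fun g => hlv (theta g)) ?_ (fun i j h => h) ?_ i j hzw t
    · show D.π (K.Φ' (theta (tv' (ia l) (ib l) 1))) = _
      rw [theta_tv' (iab l), hd, S_symm (show pl (Sum.inr (ia l) : II l) ≠ pl (Sum.inr (ib l) : II l) from iab l),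
        _root_.neg_neg]
    intro g π d hg i j hij
    show Fork.levi (theta g) * _ * (Fork.levi (theta g))⁻¹ = _
    rw [(levi_mono hg.theta).conj_S (show pl (Sum.inr i : II l) ≠ pl (Sum.inr j : II l) from hij)]
    simp [sc]

/-- The model of a glued group is faithful, with image generated by the root elements. -/
theorem injective_range (D : Gluing F G l) :
    Function.Injective D.π ∧ D.π.range = Subgroup.closure (gens F (l + 2)) := by
  obtain ⟨K, hK, hK'⟩ := D.exists_fork
  set T : Set G := {g | ∃ z w t, pl z ≠ pl w ∧ g = K.X z w t} with hT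
  have hΦmem : ∀ g, D.Φ g ∈ Subgroup.closure T := by
    intro g
    have hg : g ∈ Subgroup.closure {g : Matrix.SpecialLinearGroup (Fin (l + 2)) F |
        ∃ (i j : Fin (l + 2)) (h : i ≠ j) (c : F), g = Matrix.SpecialLinearGroup.transvection h c} := by
      rw [Cfsg.Agent.Classical.sl_closure_transvections]; exact Subgroup.mem_top g
    induction hg using Subgroup.closure_induction with
    | mem x hx =>
      obtain ⟨i, j, hij, c, rfl⟩ := hx
      refine Subgroup.subset_closure ⟨Sum.inl i, Sum.inr j, c, hij, ?_⟩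
      show _ = K.Φ (tv' i j c)
      rw [hK, show Matrix.SpecialLinearGroup.transvection hij c = tv' i j c by rw [tv', dif_pos hij]]
    | one => rw [map_one]; exact one_mem _
    | mul a b _ _ ha hb => rw [map_mul]; exact mul_mem ha hb
    | inv a _ ha => rw [map_inv]; exact inv_mem ha
  have hkap : ∀ g, D.kap g ∈ Subgroup.closure T := by
    intro g
    refine sl2_induction (P := fun g => D.kap g ∈ _) (fun s => ?_) (fun s => ?_) (by rw [map_one]; exact one_mem _)
      (fun a b ha hb => by rw [map_mul]; exact mul_mem ha hb) (fun a ha => by rw [map_inv]; exact inv_mem ha) g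
    · refine Subgroup.subset_closure ⟨Sum.inl (ia l), Sum.inl (ib l), s, iab l, ?_⟩
      show _ = K.n2 (ia l) (ib l) s
      rw [K.n2_last (iab l), ← emb2_ue (iab l), hK']
    · refine Subgroup.subset_closure ⟨Sum.inr (ib l), Sum.inr (ia l), s, (iab l).symm, ?_⟩
      show _ = K.dual.n2 (ib l) (ia l) s
      rw [K.dual.n2_anti (iab l), K.dual.n2_last (iab l), ← hK']
      show _ = K.Φ' (theta (tv' (ia l) (ib l) (-s)))
      rw [theta_tv' (iab l), _root_.neg_neg, emb2_le' (iab l)]
  have hgen : Subgroup.closure T = ⊤ := by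
    rw [eq_top_iff, ← D.gen, Subgroup.closure_le]
    rintro _ (⟨g, rfl⟩ | rfl)
    · exact hΦmem g
    · show D.t ∈ _
      rw [D.expr]
      exact mul_mem (mul_mem (hΦmem _) (hkap _)) (inv_mem (hΦmem _))
  have hgraph : ∀ g : G, (g, D.π g) ∈ K.Gam := by
    intro g
    have hg : g ∈ Subgroup.closure T := hgen ▸ Subgroup.mem_top g
    induction hg using Subgroup.closure_induction with
    | mem x hx =>
      obtain ⟨z, w, t, h, rfl⟩ := hx
      rw [D.π_X K hK hK' h]
      exact Subgroup.subset_closure ⟨z, w, t, h, rfl⟩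
    | one => rw [map_one]; exact one_mem _
    | mul a b _ _ ha hb => rw [map_mul]; exact mul_mem ha hb
    | inv a _ ha => rw [map_inv]; exact inv_mem ha
  have hinj : Function.Injective D.π := by
    rw [injective_iff_map_eq_one]
    intro g hg
    have hz : K.Φ (emb2 (iab l) (-1)) * K.Φ' (emb2 (iab l) (-1)) = 1 := by rw [hK, hK']; exact D.neg
    exact congrArg Prod.fst (K.Gam_inj_of_neg hz (hgraph g) hg)
  have hrange : D.π.range = Subgroup.closure (gens F (l + 2)) := by
    refine le_antisymm ?_ ?_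
    · rintro _ ⟨g, rfl⟩
      rw [← K.gam_map]
      exact ⟨_, hgraph g, rfl⟩
    · rw [← K.gam_map]
      rintro _ ⟨x, hx, rfl⟩
      show x.2 ∈ D.π.range
      have hx' : x ∈ (MonoidHom.range D.π).comap (MonoidHom.snd G (GL (II l) F)) := by
        refine (Subgroup.closure_le _).2 ?_ hx
        rintro _ ⟨z, w, t, h, rfl⟩
        exact ⟨K.X z w t, D.π_X K hK hK' h t⟩
      exact hx'
  exact ⟨hinj, hrange⟩

/-- The glued group is the commutator subgroup of the orthogonal group. -/
theorem equiv (D : Gluing F G l) :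
    Nonempty (G ≃* ↥(Cfsg.Omega F (Cfsg.quadFormPlus (l + 2) F))) := by
  obtain ⟨K, hK, hK'⟩ := D.exists_fork
  obtain ⟨hinj, hrange⟩ := D.injective_range
  let Q := Cfsg.quadFormPlus (l + 2) F
  have hΩ : (Cfsg.Omega F Q).map (Cfsg.isometryGroup F Q).subtype = D.π.range := by
    rw [hrange, Cfsg.Omega, commutator_def, Subgroup.map_commutator, ← MonoidHom.range_eq_map, Subgroup.range_subtype,
      K.derived]
  exact ⟨(MonoidHom.ofInjective hinj).trans ((MulEquiv.subgroupCongr hΩ.symm).trans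
    ((Cfsg.Omega F Q).equivMapOfInjective _ (Cfsg.isometryGroup F Q).subtype_injective).symm)⟩

end Gluing

end Cfsg.Agent.Small.OmegaPres
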