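import Cfsg.Agent.Lib.Small.OmegaPres.Assemble

/-!
The centre of the commutator subgroup of the orthogonal group of plus type.
-/

set_option autoImplicit false
set_option linter.unusedSectionVars false
set_option linter.unusedSimpArgs false
set_option linter.style.haveILetI false

namespace Cfsg.Agent.Small.OmegaPres

open Matrix Cfsg.Agent.Lie.CTA
open Cfsg.Agent.Lie.PlusGen (pl pl_swap gens)

variable {F : Type*} [Field F] [Fintype F] {l : ℕ}

theorem exists_pl (hl : 2 ≤ l) (a x : II l) : ∃ y : II l, pl y ≠ pl x ∧ pl y ≠ pl a := by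
  obtain ⟨c, h1, h2, -⟩ := exists_spare hl (pl x) (pl a) (pl a)
  exact ⟨Sum.inl c, h1, h2⟩

/-- A matrix commuting with all root elements is scalar. -/
theorem scalar_of_comm (hl : 2 ≤ l) {M : Matrix (II l) (II l) F}
    (h : ∀ x y : II l, pl x ≠ pl y → M * nil x y 1 = nil x y 1 * M) : ∃ c : F, M = c • 1 := by
  have ent : ∀ x y : II l, pl x ≠ pl y → ∀ a b : II l,
      (if y.swap = b then M a x else 0) - (if x.swap = b then M a y else 0) =
        (if a = x then M y.swap b else 0) - (if a = y then M x.swap b else 0) := by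
    intro x y hxy a b
    have hr : ∀ i j : II l, (M * Matrix.single i j (1 : F)) a b = if j = b then M a i else 0 := fun i j => by
      by_cases hj : j = b
      · subst hj; simp
      · rw [if_neg hj, Matrix.mul_single_apply_of_ne _ _ _ _ _ (Ne.symm hj)]
    have hs : ∀ i j : II l, (Matrix.single i j (1 : F) * M) a b = if a = i then M j b else 0 := fun i j => by
      by_cases hi : a = i
      · subst hi; simp
      · rw [if_neg hi, Matrix.single_mul_apply_of_ne _ _ _ _ _ hi]
    have := congrFun (congrFun (h x y hxy) a) b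
    rw [nil, Matrix.mul_sub, Matrix.sub_mul, Matrix.sub_apply, Matrix.sub_apply, hr, hr, hs, hs] at this
    exact this
  have swne : ∀ {x y : II l}, pl x ≠ pl y → x.swap ≠ y.swap := fun h e => h (by rw [← pl_swap, e, pl_swap])
  have off : ∀ a x : II l, a ≠ x → M a x = 0 := by
    intro a x hax
    obtain ⟨y, hy1, hy2⟩ := exists_pl hl a x
    have hay : a ≠ y := fun e => hy2 (by rw [e])
    have := ent x y hy1.symm a y.swap
    simpa [hax, hay, swne hy1.symm] using this
  have diag : ∀ x z : II l, pl x ≠ pl z → M x x = M z z := by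
    intro x z hxz
    have hp : pl x ≠ pl z.swap := by rw [pl_swap]; exact hxz
    have hne : x ≠ z.swap := fun e => hp (by rw [e])
    have := ent x z.swap hp x z
    have hxs : x.swap ≠ z := fun e => hxz (by rw [← e, pl_swap])
    rw [if_pos (Sum.swap_swap z), if_neg hxs, if_pos rfl, if_neg hne] at this
    simpa using this
  refine ⟨M (Sum.inl (ia l)) (Sum.inl (ia l)), ?_⟩
  ext a b
  by_cases hab : a = b
  · subst hab
    obtain ⟨y, hy1, hy2⟩ := exists_pl hl a (Sum.inl (ia l))
    simp [diag a y hy2.symm, diag _ y hy1.symm]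
  · simp [off a b hab, hab]

/-- The centre is generated by one element. -/
theorem Gluing.center_cyclic {G : Type*} [Group G] (D : Gluing F G l) :
    ∃ z, Subgroup.normalClosure {z} = Subgroup.center ↥(Cfsg.Omega F (Cfsg.quadFormPlus (l + 2) F)) := by
  obtain ⟨K, -, -⟩ := D.exists_fork
  set Q := Cfsg.quadFormPlus (l + 2) F
  set O := Cfsg.Omega F Q
  have hmap : O.map (Cfsg.isometryGroup F Q).subtype = Subgroup.closure (gens F (l + 2)) := by
    rw [show O = Cfsg.Omega F Q from rfl, Cfsg.Omega, commutator_def, Subgroup.map_commutator,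
      ← MonoidHom.range_eq_map, Subgroup.range_subtype, K.derived]
  have sgn : ∀ c ∈ Subgroup.center ↥O, ∃ e : F, (e = 1 ∨ e = -1) ∧ (c.1.1.1 : Matrix (II l) (II l) F) = e • 1 := by
    intro c hc
    obtain ⟨e, he⟩ := scalar_of_comm D.two (M := c.1.1.1) fun x y hxy => by
      have hS : S x y (1 : F) ∈ O.map (Cfsg.isometryGroup F Q).subtype := by
        rw [hmap]
        exact Subgroup.subset_closure ⟨x, y, 1, (pl_ne_iff.1 hxy).1, (pl_ne_iff.1 hxy).2,
          fun v => S_mulVec hxy 1 v⟩
      obtain ⟨s, hs, hs'⟩ := hS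
      have e1 := congrArg (fun g : ↥O => (g.1.1.1 : Matrix (II l) (II l) F)) (Subgroup.mem_center_iff.1 hc ⟨s, hs⟩)
      have hs'' : s.1.1 = 1 + nil x y (1 : F) := by
        rw [show s.1 = S x y (1 : F) from hs', S_val hxy]
      simp only [Subgroup.coe_mul, Units.val_mul, hs''] at e1
      rw [add_mul, mul_add, one_mul, mul_one] at e1
      exact (add_left_cancel e1).symm
    refine ⟨e, ?_, he⟩
    have hq : ∀ v, Q (c.1.1.1 *ᵥ v) = Q v := fun v => by
      have := c.1.2
      exact this v v
    have h1 := hq (Pi.single (Sum.inl (ia l)) 1 + Pi.single (Sum.inr (ia l)) 1)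
    rw [he] at h1
    have h2 : e * e = 1 := by
      simpa [Q, Cfsg.quadFormPlus, Matrix.smul_mulVec, Pi.single_apply] using h1
    exact mul_self_eq_one_iff.1 h2
  have ext' : ∀ a b : ↥O, (a.1.1.1 : Matrix (II l) (II l) F) = b.1.1.1 → a = b := fun a b h =>
    Subtype.ext (Subtype.ext (Units.ext h))
  by_cases hbot : ∃ z ∈ Subgroup.center ↥O, z ≠ 1
  · obtain ⟨z, hz, hz1⟩ := hbot
    refine ⟨z, le_antisymm (Subgroup.normalClosure_le_normal (by rintro _ rfl; exact hz)) fun y hy => ?_⟩
    by_cases hy1 : y = 1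
    · subst hy1; exact one_mem _
    obtain ⟨a, ha, hya⟩ := sgn y hy
    obtain ⟨b, hb, hzb⟩ := sgn z hz
    have key : ∀ (g : ↥O) (d : F), g ≠ 1 → (d = 1 ∨ d = -1) → g.1.1.1 = d • (1 : Matrix (II l) (II l) F) → d = -1 := by
      rintro g d hg (rfl | rfl) hgd
      · exact absurd (ext' g 1 (by rw [hgd, one_smul]; rfl)) hg
      · rfl
    have e : y = z := ext' y z (by rw [hya, hzb, key y a hy1 ha hya, key z b hz1 hb hzb])
    rw [e]
    exact Subgroup.subset_normalClosure rfl
  · push Not at hbot
    refine ⟨1, le_antisymm (Subgroup.normalClosure_le_normal (by rintro _ rfl; exact one_mem _)) fun y hy => ?_⟩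
    rw [hbot y hy]; exact one_mem _

end Cfsg.Agent.Small.OmegaPres
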