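import Cfsg.Agent.Lib.Small.OmegaPres.ForkWeyl

/-!
The projection of a fork to the matrices is injective once the two central involutions agree.
-/

set_option autoImplicit false
set_option linter.unusedSectionVars false
set_option linter.unusedSimpArgs false
set_option linter.style.haveILetI false

namespace Cfsg.Agent.Lie.CTA

open Matrix
open Cfsg.Agent.Lie.PlusGen (pl pl_swap swap_ne)

variable {F : Type*} [Field F] [Fintype F] {G : Type*} [Group G] {l : ℕ}

namespace Fork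

variable (K : Fork F G l)

/-- The decomposed elements. -/
def NCells : Set (Amb F G l) :=
  {g | ∃ u ∈ K.U, ∃ n π k, (K.Mon n π k ∧ n ∈ K.monN) ∧ ∃ v ∈ K.U, g = u * n * v}

theorem U_mul_NCells {a g : Amb F G l} (ha : a ∈ K.U) (hg : g ∈ K.NCells) : a * g ∈ K.NCells := by
  obtain ⟨u, hu, n, π, k, hn, v, hv, rfl⟩ := hg
  exact ⟨a * u, mul_mem ha hu, n, π, k, hn, v, hv, by group⟩

theorem M_mul_NCells {p q : II l} (hpq : Simple p q) {t : F} (ht : t ≠ 0) {g : Amb F G l} (hg : g ∈ K.NCells) :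
    K.M p q t * g ∈ K.NCells := by
  obtain ⟨u, hu, n, π, k, ⟨hn, hnN⟩, v, hv, rfl⟩ := hg
  have hMN : K.M p q t ∈ K.monN := K.M_mem_monN hpq.1 ht
  have hpos : Pos p q := ⟨hpq.1, by rw [hpq.2]; exact one_pos⟩
  obtain ⟨u1, hu1, s, rfl⟩ := K.U_split hpos hu
  have hm := K.M_mon hpq.1 ht
  have hM1 : K.M p q t * u1 * (K.M p q t)⁻¹ ∈ K.U := by
    refine conj_closure _ _ _ ?_ hu1
    rintro _ ⟨z, w, c, hzw, hne, rfl⟩
    rw [hm.conj hzw.1]
    exact K.e_mem_U (refl_pos hpq hzw hne) _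
  -- pulling a root element through a monomial
  have pull : ∀ (n : Amb F G l) (π : Equiv.Perm (II l)) (k : II l → F), K.Mon n π k →
      0 < ht' (π.symm p) + ht' (π.symm q) → ∀ c : F, ∃ v ∈ K.U, K.e p q c * n = n * v := by
    intro n π k hn h c
    have hpl : pl (π.symm p) ≠ pl (π.symm q) := by
      intro e
      rcases pl_eq e with e | e
      · exact hpq.1 (by rw [π.symm.injective e])
      · refine hpq.1 ?_
        rw [← π.apply_symm_apply p, e, hn.comm_swap, π.apply_symm_apply, pl_swap]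
    refine ⟨K.e (π.symm p) (π.symm q) (c / (k (π.symm p) * k (π.symm q))), K.e_mem_U ⟨hpl, h⟩ _, ?_⟩
    have e := hn.conj hpl (c / (k (π.symm p) * k (π.symm q)))
    rw [π.apply_symm_apply, π.apply_symm_apply,
      mul_div_cancel₀ _ (mul_ne_zero (hn.k_ne _) (hn.k_ne _))] at e
    exact (mul_inv_eq_iff_eq_mul.1 e).symm
  suffices h : K.M p q t * K.e p q s * n * v ∈ K.NCells by
    have e : K.M p q t * (u1 * K.e p q s * n * v) =
        (K.M p q t * u1 * (K.M p q t)⁻¹) * (K.M p q t * K.e p q s * n * v) := by group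
    rw [e]
    exact K.U_mul_NCells hM1 h
  by_cases hsym : 0 < ht' (π.symm p) + ht' (π.symm q)
  · obtain ⟨v', hv', e⟩ := pull n π k hn hsym s
    refine ⟨1, one_mem _, _, _, _, ⟨hm.mul hn, mul_mem hMN hnN⟩, v' * v, mul_mem hv' hv, ?_⟩
    rw [mul_assoc (K.M p q t), e]; group
  by_cases hs : s = 0
  · refine ⟨1, one_mem _, _, _, _, ⟨hm.mul hn, mul_mem hMN hnN⟩, v, hv, ?_⟩
    rw [hs, K.e_zero hpq.1]; group
  obtain ⟨r, hr0, hr⟩ : ∃ r : F, r ≠ 0 ∧ K.M p q t * K.e p q s = K.e q.swap p.swap r * K.M p q t := by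
    obtain ⟨r1, -, -, r4, -⟩ := refl_val hpq.1
    obtain ⟨k1, -, -, k4⟩ := scal_val hpq.1 t
    refine ⟨t * -t * s, mul_ne_zero (mul_ne_zero ht (neg_ne_zero.2 ht)) hs, ?_⟩
    rw [← mul_inv_eq_iff_eq_mul, hm.conj hpq.1, r1, r4, k1, k4]
  have hy : K.e q.swap p.swap r = K.e p q r⁻¹ * K.M p q r * K.e p q r⁻¹ := by
    rw [M, ← K.e_inv hpq.1]; group
  have hn2 := hm.mul hn
  have h2 : 0 < ht' ((refl p q * π).symm p) + ht' ((refl p q * π).symm q) := by
    obtain ⟨r1, r2, r3, r4, -⟩ := refl_val hpq.1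
    have e1 : (refl p q * π).symm p = (π.symm q).swap := by
      rw [Equiv.symm_apply_eq, Equiv.Perm.coe_mul, Function.comp_apply, hn.comm_swap, π.apply_symm_apply, r2]
    have e2 : (refl p q * π).symm q = (π.symm p).swap := by
      rw [Equiv.symm_apply_eq, Equiv.Perm.coe_mul, Function.comp_apply, hn.comm_swap, π.apply_symm_apply, r3]
    have hpl : pl (π.symm p) ≠ pl (π.symm q) := by
      intro e
      rcases pl_eq e with e | e
      · exact hpq.1 (by rw [π.symm.injective e])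
      · refine hpq.1 ?_
        rw [← π.apply_symm_apply p, e, hn.comm_swap, π.apply_symm_apply, pl_swap]
    have := ht'_ne hpl
    rw [e1, e2, ht'_swap, ht'_swap]
    omega
  obtain ⟨v', hv', e'⟩ := pull _ _ _ hn2 h2 r⁻¹
  refine ⟨K.e p q r⁻¹, K.e_mem_U hpos _, _, _, _, ⟨(K.M_mon hpq.1 hr0).mul hn2, mul_mem (K.M_mem_monN hpq.1 hr0) (mul_mem hMN hnN)⟩, v' * v, mul_mem hv' hv, ?_⟩
  rw [hr, hy]
  calc K.e p q r⁻¹ * K.M p q r * K.e p q r⁻¹ * K.M p q t * n * v =
        K.e p q r⁻¹ * K.M p q r * (K.e p q r⁻¹ * (K.M p q t * n)) * v := by group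
    _ = _ := by rw [e']; group

theorem NCells_of_gen0 {g : Amb F G l} (hg : g ∈ Subgroup.closure K.gen0) : g ∈ K.NCells := by
  induction hg using Subgroup.closure_induction_left with
  | one => exact ⟨1, one_mem _, 1, _, _, ⟨Mon.one, one_mem _⟩, 1, one_mem _, by group⟩
  | mul_left y hy a _ ha =>
    rcases hy with h | ⟨p, q, t, h, ht, rfl⟩
    · exact K.U_mul_NCells h ha
    · exact K.M_mul_NCells h ht ha
  | inv_mul_cancel y hy a _ ha =>
    rcases hy with h | ⟨p, q, t, h, ht, rfl⟩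
    · exact K.U_mul_NCells (inv_mem h) ha
    · rw [K.M_inv h.1]; exact K.M_mul_NCells h (neg_ne_zero.2 ht) ha

/-- The projection to the matrices is injective. -/
theorem Gam_inj_of_neg (hz : K.Φ (emb2 (iab l) (-1)) * K.Φ' (emb2 (iab l) (-1)) = 1) {g : Amb F G l}
    (hg : g ∈ K.Gam) (h1 : g.2 = 1) : g = 1 := by
  have hgen : g ∈ Subgroup.closure K.gen0 := by
    refine (show K.Gam ≤ Subgroup.closure K.gen0 from (Subgroup.closure_le _).2 ?_) hg
    rintro _ ⟨z, w, t, h, rfl⟩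
    exact K.e_mem_gen0 z w h t
  obtain ⟨u, hu, n, π, k, ⟨hn, hnN⟩, v, hv, rfl⟩ := K.NCells_of_gen0 hgen
  have hnv : n.2 = ((u⁻¹ * v⁻¹ : Amb F G l)).2 := by
    rw [Prod.snd_mul, Prod.snd_inv, Prod.snd_inv]
    have : u.2 * n.2 * v.2 = 1 := h1
    calc n.2 = u.2⁻¹ * (u.2 * n.2 * v.2) * v.2⁻¹ := by group
      _ = _ := by rw [this, mul_one]
  have huni : Uni n.2.1 := by
    rw [hnv]; exact (K.U_uni (mul_mem (inv_mem hu) (inv_mem hv))).1
  have hk : ∀ z, π z = z ∧ k z = 1 := by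
    intro z
    have e := congrFun (hn.mat z) z
    rw [mulVec_single_one, Matrix.col_apply, (huni z).1, Pi.single_apply] at e
    by_cases hz : z = π z
    · rw [if_pos hz] at e; exact ⟨hz.symm, e.symm⟩
    · rw [if_neg hz] at e; exact absurd e one_ne_zero
  have hn2 : n.2 = 1 := PlusGen.ext_single fun z => by
    rw [hn.mat, (hk z).1, (hk z).2, Units.val_one, one_mulVec]
  have hn' : n = 1 := K.monN_inj hz hnN hn2
  subst hn'
  rw [mul_one] at h1 ⊢
  exact K.U_inj (mul_mem hu hv) h1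

end Fork

end Cfsg.Agent.Lie.CTA
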