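import Cfsg.Agent.Lib.Small.OmegaPres.ForkTorus

/-!
The torus of a fork is closed under multiplication, contains every torus element and embeds in the matrices
once the two central involutions agree.
-/

set_option autoImplicit false
set_option linter.unusedSectionVars false
set_option linter.unusedSimpArgs false
set_option linter.style.haveILetI false

namespace Cfsg.Agent.Lie.CTA

open Matrix
open Cfsg.Agent.Lie.PlusGen (pl pl_swap swap_ne)

variable {F : Type*} [Field F] [Fintype F] {G : Type*} [Group G] {l : ℕ}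

namespace Fork

variable (K : Fork F G l)

theorem lv_mat {h : Matrix.SpecialLinearGroup (Fin (l + 2)) F} {π : Equiv.Perm (Fin (l + 2))}
    {d : Fin (l + 2) → F} (hh : IsMono h π d) (z : II l) :
    (K.lv h).2.1 *ᵥ Pi.single z 1 = Pi.single (mapI π z) (sc d z) := by
  show Matrix.fromBlocks h.1 0 0 (theta h).1 *ᵥ _ = _
  rcases z with i | i
  · ext (a | a)
    · simpa [Matrix.mulVec_single_one, mapI, sc, Pi.single_apply] using hh.apply a i
    · simp [Matrix.mulVec_single_one, mapI, sc, Pi.single_apply]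
  · ext (a | a)
    · simp [Matrix.mulVec_single_one, mapI, sc, Pi.single_apply]
    · simpa [Matrix.mulVec_single_one, mapI, sc, Pi.single_apply] using hh.theta.apply a i

theorem Mon.of_perm {γ : Amb F G l} {π π' : Equiv.Perm (II l)} {k : II l → F} (h : K.Mon γ π k) (e : π = π') :
    K.Mon γ π' k := e ▸ h

theorem lv_mon {h : Matrix.SpecialLinearGroup (Fin (l + 2)) F} {π : Equiv.Perm (Fin (l + 2))}
    {d : Fin (l + 2) → F} (hh : IsMono h π d) :
    K.Mon (K.lv h) (Equiv.sumCongr π π) (sc d) where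
  comm_swap z := by rcases z with i | i <;> rfl
  kk z := by rcases z with i | i <;> simp [sc, hh.ne_zero i]
  mat z := (K.lv_mat hh z).trans (by rcases z with i | i <;> rfl)
  conjG z w hzw t := by
    have := K.transport hh z w hzw t
    rcases z with i | i <;> rcases w with j | j <;> exact this

/-- Conjugation of a monomial element. -/
theorem Mon.conj_M {n : Amb F G l} {π : Equiv.Perm (II l)} {k : II l → F} (hn : K.Mon n π k) {p q : II l}
    (h : pl p ≠ pl q) (t : F) :
    n * K.M p q t * n⁻¹ = K.M (π p) (π q) (t / (k p * k q)) := by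
  have h' : pl q.swap ≠ pl p.swap := by rw [pl_swap, pl_swap]; exact h.symm
  have hk1 := hn.k_ne p
  have hk2 := hn.k_ne q
  have e1 : k q.swap * k p.swap = (k p * k q)⁻¹ := by
    rw [eq_inv_of_mul_eq_one_right (hn.kk p), eq_inv_of_mul_eq_one_right (hn.kk q), _root_.mul_inv_rev]
  calc n * K.M p q t * n⁻¹ = (n * K.e p q (-t⁻¹) * n⁻¹) * (n * K.e q.swap p.swap t * n⁻¹) *
        (n * K.e p q (-t⁻¹) * n⁻¹) := by rw [M]; group
    _ = _ := by
      rw [hn.conj h, hn.conj h', hn.comm_swap, hn.comm_swap, e1, M,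
        show k p * k q * -t⁻¹ = -(t / (k p * k q))⁻¹ by field_simp,
        show (k p * k q)⁻¹ * t = t / (k p * k q) by rw [div_eq_inv_mul]]

theorem M_eq_tor {p q : II l} (t : F) (h : pl p ≠ pl q) : K.M p q t = K.tor p q t * K.M p q 1 := by
  rw [tor, mul_assoc, ← K.M_inv h 1, inv_mul_cancel, mul_one]

theorem Mon.conj_tor {n : Amb F G l} {π : Equiv.Perm (II l)} {k : II l → F} (hn : K.Mon n π k) {p q : II l}
    (h : pl p ≠ pl q) {t : F} (ht : t ≠ 0) :
    n * K.tor p q t * n⁻¹ = K.tor (π p) (π q) t := by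
  have hc : k p * k q ≠ 0 := mul_ne_zero (hn.k_ne p) (hn.k_ne q)
  have h2 : pl (π p) ≠ pl (π q) := hn.pl_ne h
  have e : n * K.tor p q t * n⁻¹ = (n * K.M p q t * n⁻¹) * (n * K.M p q (-1) * n⁻¹) := by rw [tor]; group
  rw [e, hn.conj_M K h, hn.conj_M K h, neg_div, ← K.M_inv h2, K.M_eq_tor _ h2, K.M_eq_tor (1 / (k p * k q)) h2,
    show ∀ a b c : Amb F G l, a * c * (b * c)⁻¹ = a * b⁻¹ from fun a b c => by group,
    K.tor_inv h2 (one_div_ne_zero hc), one_div, inv_inv, K.tor_add h2 (div_ne_zero ht hc) hc, div_mul_cancel₀ _ hc]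

theorem mono_mul {k : ℕ} {a b : Matrix.SpecialLinearGroup (Fin k) F} {π ρ : Equiv.Perm (Fin k)} {d e : Fin k → F}
    (ha : IsMono a π d) (hb : IsMono b ρ e) : IsMono (a * b) (π * ρ) fun i => e i * d (ρ i) := fun i => by
  rw [Matrix.SpecialLinearGroup.coe_mul, ← mulVec_mulVec, hb, ha.single]; rfl

theorem mono_inv {k : ℕ} {a : Matrix.SpecialLinearGroup (Fin k) F} {π : Equiv.Perm (Fin k)} {d : Fin k → F}
    (ha : IsMono a π d) : IsMono a⁻¹ π⁻¹ fun i => (d (π⁻¹ i))⁻¹ := fun i => by
  have e := congrArg ((a⁻¹).1 *ᵥ ·) (ha.single (π⁻¹ i) (d (π⁻¹ i))⁻¹)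
  simp only [mulVec_mulVec, ← Matrix.SpecialLinearGroup.coe_mul, inv_mul_cancel, Matrix.SpecialLinearGroup.coe_one,
    one_mulVec, inv_mul_cancel₀ (ha.ne_zero _)] at e
  rw [show π (π⁻¹ i) = i from Equiv.apply_symm_apply π i] at e
  exact e.symm

theorem plus_pl : pl (Sum.inl (ia l) : II l) ≠ pl (Sum.inl (ib l) : II l) := iab l

theorem lv_comm_plus {h : Matrix.SpecialLinearGroup (Fin (l + 2)) F} {d : Fin (l + 2) → F} (hh : IsMono h 1 d)
    {t : F} (ht : t ≠ 0) : Commute (K.lv h) (K.tor (Sum.inl (ia l)) (Sum.inl (ib l)) t) := by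
  have := (K.lv_mon hh).conj_tor K (plus_pl (l := l)) ht
  rw [mul_inv_eq_iff_eq_mul] at this
  exact this.trans (by simp)

/-- The torus as a subgroup. -/
def torG : Subgroup (Amb F G l) where
  carrier := K.tors
  one_mem' := ⟨1, fun _ => 1, 1, fun i => one_mulVec _, one_ne_zero, by rw [map_one, one_mul, K.tor_one plus_pl]⟩
  mul_mem' := by
    rintro _ _ ⟨h, d, t, hh, ht, rfl⟩ ⟨h', d', t', hh', ht', rfl⟩
    refine ⟨h * h', fun i => d' i * d i, t * t', by simpa using mono_mul hh hh', mul_ne_zero ht ht', ?_⟩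
    rw [map_mul, ← K.tor_add plus_pl ht ht', mul_assoc (K.lv h) (K.lv h'), ← mul_assoc (K.lv h'),
      (K.lv_comm_plus hh' ht).eq]
    group
  inv_mem' := by
    rintro _ ⟨h, d, t, hh, ht, rfl⟩
    refine ⟨h⁻¹, fun i => (d i)⁻¹, t⁻¹, by simpa using mono_inv hh, inv_ne_zero ht, ?_⟩
    rw [_root_.mul_inv_rev, K.tor_inv plus_pl ht, map_inv]
    exact ((K.lv_comm_plus hh (inv_ne_zero ht)).inv_left.eq).symm

theorem lv_mem_torG {h : Matrix.SpecialLinearGroup (Fin (l + 2)) F} {d : Fin (l + 2) → F} (hh : IsMono h 1 d) :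
    K.lv h ∈ K.torG :=
  ⟨h, d, 1, hh, one_ne_zero, by rw [K.tor_one plus_pl, mul_one]⟩

theorem tor_levi {i j : Fin (l + 2)} (hij : i ≠ j) {t : F} (ht : t ≠ 0) :
    K.tor (Sum.inl i) (Sum.inr j) t ∈ K.torG := by
  have h : pl (Sum.inl i : II l) ≠ pl (Sum.inr j : II l) := hij
  have e : K.tor (Sum.inl i) (Sum.inr j) t = K.lv (emb2 hij (diagD t ht)) := by
    have anti : ∀ x (hx : x ≠ 0), K.M (Sum.inl i) (Sum.inr j) x = K.lv (emb2 hij (antiD x hx)) := fun x hx => by
      rw [antiD_eq, map_mul (emb2 hij), map_mul (emb2 hij), emb2_ue hij, emb2_le' hij, map_mul, map_mul,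
        K.lv_tv hij, K.lv_tv hij.symm]
      rfl
    rw [tor, anti t ht, anti (-1) (neg_ne_zero.2 one_ne_zero), ← map_mul, ← map_mul, antiD_mul]
  rw [e]
  exact K.lv_mem_torG (emb2_diag hij (g := diagD t ht) rfl)

theorem tor_inl {t : F} (ht : t ≠ 0) {i j : Fin (l + 2)} (hij : i ≠ j) :
    K.tor (Sum.inl i) (Sum.inl j) t ∈ K.torG := by
  have move : ∀ i j m : Fin (l + 2), i ≠ j → m ≠ i → m ≠ j → K.tor (Sum.inl m) (Sum.inl j) t ∈ K.torG →
      K.tor (Sum.inl i) (Sum.inl j) t ∈ K.torG := by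
    intro i j m hij hmi hmj hm
    rw [K.tor_triple (x := Sum.inl i) (y := Sum.inr m) (z := Sum.inl j) (show i ≠ m from hmi.symm)
      (show m ≠ j from hmj) (show i ≠ j from hij) ht, Sum.swap_inr]
    exact mul_mem (K.tor_levi hmi.symm ht) hm
  have flip : ∀ i j : Fin (l + 2), i ≠ j → K.tor (Sum.inl i) (Sum.inl j) t ∈ K.torG →
      K.tor (Sum.inl j) (Sum.inl i) t ∈ K.torG := fun i j hij hm => by
    rwa [K.tor_symm (p := Sum.inl i) (q := Sum.inl j) hij ht]
  have base : K.tor (Sum.inl (ia l)) (Sum.inl (ib l)) t ∈ K.torG :=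
    ⟨1, fun _ => 1, t, fun i => one_mulVec _, ht, by rw [map_one, one_mul]⟩
  have withA : ∀ j, j ≠ ia l → K.tor (Sum.inl (ia l)) (Sum.inl j) t ∈ K.torG := fun j hj => by
    by_cases hjb : j = ib l
    · subst hjb; exact base
    · exact flip j (ia l) hj (move j (ia l) (ib l) hj (Ne.symm hjb) (iab l).symm (flip _ _ (iab l) base))
  by_cases hja : j = ia l
  · subst hja; exact flip _ _ hij.symm (withA i hij)
  · by_cases hia : i = ia l
    · subst hia; exact withA j hja
    · exact move i j (ia l) hij (Ne.symm hia) (Ne.symm hja) (withA j hja)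

theorem tor_mem {p q : II l} (h : pl p ≠ pl q) {t : F} (ht : t ≠ 0) : K.tor p q t ∈ K.torG := by
  rcases p with i | i <;> rcases q with j | j
  · exact K.tor_inl ht h
  · exact K.tor_levi h ht
  · rw [K.tor_symm (p := Sum.inl j) (q := Sum.inr i) (Ne.symm h) ht]
    exact K.tor_levi (Ne.symm h) ht
  · have := K.tor_neg_root (p := Sum.inl j) (q := Sum.inl i) (Ne.symm h) ht
    simp only [Sum.swap_inl] at this
    rw [this]
    exact K.tor_inl (inv_ne_zero ht) (Ne.symm h)

/-- Only the identity of the torus has trivial matrix. -/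
theorem torG_inj (hz : K.Φ (emb2 (iab l) (-1)) * K.Φ' (emb2 (iab l) (-1)) = 1) {g : Amb F G l}
    (hg : g ∈ K.torG) (h1 : g.2 = 1) : g = 1 := by
  obtain ⟨h, d, t, hh, ht, rfl⟩ := hg
  have e : ∀ i, d i * torWt (Sum.inl (ia l)) (Sum.inl (ib l)) t (Sum.inl i) = 1 := fun i => by
    have := diag_mul_mat (A := K.lv h) (f := sc d)
      (fun z => (K.lv_mat hh z).trans (by rcases z with a | a <;> simp [mapI]))
      (K.tor_mat plus_pl ht) (Sum.inl i)
    rw [h1] at this
    simp only [Units.val_one, one_mulVec, sc, Sum.elim_inl] at this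
    exact (Pi.single_injective _ this).symm
  have hd : ∀ i, d i = if i = ia l then t else if i = ib l then t else 1 := fun i => by
    have := e i
    by_cases ha : i = ia l
    · subst ha
      rw [show torWt (Sum.inl (ia l)) (Sum.inl (ib l)) t (Sum.inl (ia l)) = t⁻¹ from by simp [torWt]] at this
      rw [if_pos rfl]; exact eq_of_mul_inv_eq_one this
    by_cases hb : i = ib l
    · subst hb
      rw [show torWt (Sum.inl (ia l)) (Sum.inl (ib l)) t (Sum.inl (ib l)) = t⁻¹ from by simp [torWt]] at this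
      rw [if_neg ha, if_pos rfl]; exact eq_of_mul_inv_eq_one this
    rw [show torWt (Sum.inl (ia l)) (Sum.inl (ib l)) t (Sum.inl i) = 1 from by simp [torWt, ha, hb]] at this
    simpa [ha, hb] using this
  have hdet : t * t = 1 := by
    have hm : h.1 = Matrix.diagonal d := Matrix.ext_of_mulVec_single fun i => by
      rw [hh, mulVec_single_one]
      ext a
      by_cases ha : a = i
      · subst ha; simp
      · simp [ha, Matrix.diagonal_apply_ne, Pi.single_eq_of_ne ha]
    have := h.2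
    rw [hm, Matrix.det_diagonal] at this
    rw [← this, Fintype.prod_eq_mul (ia l) (ib l) (iab l) (fun i hi => by simp [hd, hi.1, hi.2]), hd, hd,
      if_pos rfl, if_neg (iab l).symm, if_pos rfl]
  rcases mul_self_eq_one_iff.1 hdet with rfl | rfl
  · have hone : h = 1 := Subtype.ext (Matrix.ext_of_mulVec_single fun i => (hh i).trans (by rw [hd, Matrix.SpecialLinearGroup.coe_one, one_mulVec]; simp))
    rw [hone, map_one, one_mul, K.tor_one plus_pl]
  · have hh2 : h = emb2 (iab l) (-1) := by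
      refine Subtype.ext (Matrix.ext_of_mulVec_single fun i => ?_)
      rw [hh, emb2_diag (iab l) (g := -1) (x := -1) (y := -1)
        (by ext a b; fin_cases a <;> fin_cases b <;> simp), hd]
    refine Prod.ext ?_ h1
    have hn : (-1 : F) ≠ 0 := neg_ne_zero.2 one_ne_zero
    have hp : (K.tor (Sum.inl (ia l)) (Sum.inl (ib l)) (-1)).1 = K.Φ' (emb2 (iab l) (-1)) := by
      have hK : ∀ x y : II l, pl x ≠ pl y → ∀ t, K.swap.X (flipSet {ib l} x) (flipSet {ib l} y) t = K.X x y t :=
        fun x y hxy s => by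
          have := K.swap_X x y hxy s
          simpa [flipSet, flipAt] using this
      have := (K.M_tor_straight (p := Sum.inl (ia l)) (q := Sum.inl (ib l)) (s := {ib l}) plus_pl hK
        (by simp [flipSet, pl, iab l]) (by simp [flipSet, pl]) (-1) hn).2
      rw [this, diagD_neg_one]
      rfl
    show K.Φ h * (K.tor (Sum.inl (ia l)) (Sum.inl (ib l)) (-1)).1 = 1
    rw [hp, hh2]
    exact hz

end Fork

end Cfsg.Agent.Lie.CTA
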