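import Cfsg.Agent.Lib.Lie.CTA.DN.Main

/-!
The torus of a fork: every torus element is a diagonal element of the first branch times one further torus element.
-/

set_option autoImplicit false
set_option linter.unusedSectionVars false
set_option linter.unusedSimpArgs false
set_option linter.style.haveILetI false

namespace Cfsg.Agent.Lie.CTA

open Matrix
open Cfsg.Agent.Lie.PlusGen (pl pl_swap swap_ne)

variable {F : Type*} [Field F] [Fintype F] {G : Type*} [Group G] {l : ℕ}

local notation "SL2" => Matrix.SpecialLinearGroup (Fin 2) F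

/-- The monomial element of the rank one group. -/
def antiD (t : F) (ht : t ≠ 0) : SL2 := ⟨!![0, -t⁻¹; t, 0], by rw [det_fin_two_of]; simp [ht]⟩

/-- The diagonal element of the rank one group. -/
def diagD (t : F) (ht : t ≠ 0) : SL2 := ⟨!![t⁻¹, 0; 0, t], by rw [det_fin_two_of]; simp [ht]⟩

theorem antiD_eq (t : F) (ht : t ≠ 0) : antiD t ht = ue (-t⁻¹) * le' t * ue (-t⁻¹) := by
  refine Subtype.ext ?_
  simp only [antiD, Matrix.SpecialLinearGroup.coe_mul, ue_val, le'_val, mul_fin_two]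
  ext i j; fin_cases i <;> fin_cases j <;> simp [ht]

theorem antiD_mul (t : F) (ht : t ≠ 0) : antiD t ht * antiD (-1) (neg_ne_zero.2 one_ne_zero) = diagD t ht := by
  refine Subtype.ext ?_
  rw [Matrix.SpecialLinearGroup.coe_mul]
  show !![0, -t⁻¹; t, 0] * !![0, -(-1 : F)⁻¹; -1, 0] = !![t⁻¹, 0; 0, t]
  rw [mul_fin_two]
  ext i j; fin_cases i <;> fin_cases j <;> simp [ht]

theorem diagD_mul (t u : F) (ht : t ≠ 0) (hu : u ≠ 0) : diagD t ht * diagD u hu = diagD (t * u) (mul_ne_zero ht hu) := by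
  refine Subtype.ext ?_
  rw [Matrix.SpecialLinearGroup.coe_mul]
  show !![t⁻¹, 0; 0, t] * !![u⁻¹, 0; 0, u] = !![(t * u)⁻¹, 0; 0, t * u]
  rw [mul_fin_two]
  ext i j; fin_cases i <;> fin_cases j <;> simp [mul_comm]

theorem diagD_neg_one : diagD (-1 : F) (neg_ne_zero.2 one_ne_zero) = -1 := by
  refine Subtype.ext ?_
  rw [Matrix.SpecialLinearGroup.coe_neg, Matrix.SpecialLinearGroup.coe_one]
  ext i j; fin_cases i <;> fin_cases j <;> simp [diagD]

namespace Fork

variable (K : Fork F G l)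

/-- Monomial and torus elements inside a straightened branch. -/
theorem M_tor_straight {p q : II l} {K' : Fork F G l} {s : Finset (Fin (l + 2))} (h : pl p ≠ pl q)
    (hK : ∀ x y, pl x ≠ pl y → ∀ t, K'.X (flipSet s x) (flipSet s y) t = K.X x y t)
    (hp : flipSet s p = Sum.inl (pl p)) (hq : flipSet s q.swap = Sum.inl (pl q)) (t : F) (ht : t ≠ 0) :
    (K.M p q t).1 = K'.Φ (emb2 h (antiD t ht)) ∧ (K.tor p q t).1 = K'.Φ (emb2 h (diagD t ht)) := by
  have hq' : flipSet s q = Sum.inr (pl q) :=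
    Fork.flip_inr (hq.trans (by rw [pl_swap]))
  have hp' : flipSet s p.swap = Sum.inr (pl p) := by rw [flipSet_swap, hp]; rfl
  have h' : pl q.swap ≠ pl p.swap := by rw [pl_swap, pl_swap]; exact h.symm
  have key : ∀ (t : F) (ht : t ≠ 0), (K.M p q t).1 = K'.Φ (emb2 h (antiD t ht)) := fun t ht => by
    show K.X p q (-t⁻¹) * K.X q.swap p.swap t * K.X p q (-t⁻¹) = _
    rw [← hK p q h, ← hK _ _ h', hp, hq, hq', hp', antiD_eq, map_mul (emb2 h), map_mul (emb2 h), emb2_ue h,
      emb2_le' h, map_mul, map_mul]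
    rfl
  refine ⟨key t ht, ?_⟩
  show (K.M p q t).1 * (K.M p q (-1)).1 = _
  rw [key t ht, key (-1) (neg_ne_zero.2 one_ne_zero), ← map_mul, ← map_mul, antiD_mul]

theorem M_tor_pair {p q : II l} (h : pl p ≠ pl q) :
    ∃ K' : Fork F G l, ∀ t (ht : t ≠ 0),
      (K.M p q t).1 = K'.Φ (emb2 h (antiD t ht)) ∧ (K.tor p q t).1 = K'.Φ (emb2 h (diagD t ht)) ∧
      (K.M q.swap p.swap t).1 = K'.Φ (emb2 h.symm (antiD t ht) ) ∧
      (K.tor q.swap p.swap t).1 = K'.Φ (emb2 h.symm (diagD t ht)) := by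
  obtain ⟨K', s, hK, hs⟩ := K.exists_straight [p, q.swap] (by
    intro x hx hy
    simp only [List.mem_cons, List.not_mem_nil, or_false] at hx hy
    exact Fork.no_opp h hx hy)
  refine ⟨K', fun t ht => ?_⟩
  have fp : flipSet s p = Sum.inl (pl p) := hs p (by simp)
  have fq : flipSet s q.swap = Sum.inl (pl q) := by rw [hs q.swap (by simp), pl_swap]
  obtain ⟨a1, a2⟩ := K.M_tor_straight h hK fp fq t ht
  have h' : pl q.swap ≠ pl p.swap := by rw [pl_swap, pl_swap]; exact h.symm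
  obtain ⟨b1, b2⟩ := K.M_tor_straight (p := q.swap) (q := p.swap) (K' := K') h' hK (by rw [fq, pl_swap])
    (by rw [Sum.swap_swap, fp, pl_swap]) t ht
  refine ⟨a1, a2, ?_, ?_⟩
  · rw [b1]; congr 2 <;> simp [pl_swap]
  · rw [b2]; congr 2 <;> simp [pl_swap]

theorem emb2_symm_antiD {k : ℕ} {i j : Fin k} (h : i ≠ j) (t : F) (ht : t ≠ 0) :
    emb2 h.symm (antiD t ht) = emb2 h (antiD (-t⁻¹) (neg_ne_zero.2 (inv_ne_zero ht))) := by
  refine Subtype.ext (Matrix.ext_of_mulVec_single fun c => ?_)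
  have h1 := emb2_anti h.symm (g := antiD t ht) (x := -t⁻¹) (y := t) rfl
  have h2 := emb2_anti h (g := antiD (-t⁻¹) (neg_ne_zero.2 (inv_ne_zero ht))) (x := t) (y := -t⁻¹)
    (by simp [antiD])
  rw [h1, h2, Equiv.swap_comm j i]
  by_cases hci : c = i
  · subst hci; simp [h, h.symm]
  · by_cases hcj : c = j <;> simp [hci, hcj, h, h.symm]

theorem emb2_symm_diagD {k : ℕ} {i j : Fin k} (h : i ≠ j) (t : F) (ht : t ≠ 0) :
    emb2 h.symm (diagD t ht) = emb2 h (diagD t⁻¹ (inv_ne_zero ht)) := by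
  refine Subtype.ext (Matrix.ext_of_mulVec_single fun c => ?_)
  have h1 := emb2_diag h.symm (g := diagD t ht) (x := t⁻¹) (y := t) rfl
  have h2 := emb2_diag h (g := diagD t⁻¹ (inv_ne_zero ht)) (x := t) (y := t⁻¹) (by simp [diagD])
  rw [h1, h2]
  by_cases hci : c = i
  · subst hci; simp [h, h.symm]
  · by_cases hcj : c = j <;> simp [hci, hcj, h, h.symm]

/-- The scalars of a torus element. -/
def torWt (p q : II l) (t : F) (z : II l) : F :=
  if z = p ∨ z = q then t⁻¹ else if z = p.swap ∨ z = q.swap then t else 1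

theorem tor_mat {p q : II l} (h : pl p ≠ pl q) {t : F} (ht : t ≠ 0) (z : II l) :
    (K.tor p q t).2.1 *ᵥ Pi.single z 1 = Pi.single z (torWt p q t z) := by
  obtain ⟨a0, a1, a2, a3, a4⟩ := K.tor_val h ht
  obtain ⟨a, b⟩ := pl_ne_iff.1 h
  have c : p.swap ≠ q := fun e => b (by rw [← e, Sum.swap_swap])
  have d : p.swap ≠ q.swap := fun e => a (Sum.swap_leftInverse.injective e)
  unfold torWt
  by_cases z1 : pl z = pl p
  · rcases pl_eq z1 with rfl | rfl
    · simp [a1]
    · rw [a2, if_neg (by simp [swap_ne p, c]), if_pos (Or.inl rfl)]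
  by_cases z2 : pl z = pl q
  · rcases pl_eq z2 with rfl | rfl
    · simp [a3]
    · rw [a4, if_neg (by simp [swap_ne q, b.symm]), if_pos (Or.inr rfl)]
  rw [a0 z z1 z2]
  obtain ⟨u1, u2⟩ := pl_ne_iff.1 z1
  obtain ⟨u3, u4⟩ := pl_ne_iff.1 z2
  simp [u1, u2, u3, u4]

theorem amb_ext {a b : Amb F G l} (h1 : a.1 = b.1) {f : II l → F}
    (ha : ∀ z, a.2.1 *ᵥ Pi.single z 1 = Pi.single z (f z))
    (hb : ∀ z, b.2.1 *ᵥ Pi.single z 1 = Pi.single z (f z)) : a = b :=
  Prod.ext h1 (Units.ext (Matrix.ext_of_mulVec_single fun z => (ha z).trans (hb z).symm))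

theorem diag_mul_mat {A B : Amb F G l} {f g : II l → F} (ha : ∀ z, A.2.1 *ᵥ Pi.single z 1 = Pi.single z (f z))
    (hb : ∀ z, B.2.1 *ᵥ Pi.single z 1 = Pi.single z (g z)) (z : II l) :
    (A * B).2.1 *ᵥ Pi.single z 1 = Pi.single z (f z * g z) := by
  rw [Prod.snd_mul, Units.val_mul, ← mulVec_mulVec, hb,
    show (Pi.single z (g z) : II l → F) = g z • Pi.single z 1 by rw [← Pi.single_smul, smul_eq_mul, mul_one],
    mulVec_smul, ha, ← Pi.single_smul, smul_eq_mul, mul_comm]

theorem tor_add {p q : II l} (h : pl p ≠ pl q) {t u : F} (ht : t ≠ 0) (hu : u ≠ 0) :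
    K.tor p q t * K.tor p q u = K.tor p q (t * u) := by
  obtain ⟨K', hK⟩ := K.M_tor_pair h
  refine amb_ext ?_ (diag_mul_mat (K.tor_mat h ht) (K.tor_mat h hu)) fun z => ?_
  · rw [Prod.fst_mul, (hK t ht).2.1, (hK u hu).2.1, (hK _ (mul_ne_zero ht hu)).2.1, ← map_mul, ← map_mul, diagD_mul]
  · rw [K.tor_mat h (mul_ne_zero ht hu)]
    congr 1
    unfold torWt
    split_ifs <;> simp [mul_comm]

theorem tor_one {p q : II l} (h : pl p ≠ pl q) : K.tor p q (1 : F) = 1 := by
  have := K.tor_add h (one_ne_zero (α := F)) one_ne_zero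
  rwa [mul_one, mul_eq_left] at this

theorem tor_inv {p q : II l} (h : pl p ≠ pl q) {t : F} (ht : t ≠ 0) :
    (K.tor p q t)⁻¹ = K.tor p q t⁻¹ := by
  rw [inv_eq_iff_mul_eq_one, K.tor_add h ht (inv_ne_zero ht), mul_inv_cancel₀ ht, K.tor_one h]

theorem tor_neg_root {p q : II l} (h : pl p ≠ pl q) {t : F} (ht : t ≠ 0) :
    K.tor q.swap p.swap t = K.tor p q t⁻¹ := by
  obtain ⟨K', hK⟩ := K.M_tor_pair h
  have h' : pl q.swap ≠ pl p.swap := by rw [pl_swap, pl_swap]; exact h.symm
  refine amb_ext ?_ (K.tor_mat h' ht) fun z => ?_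
  · rw [(hK t ht).2.2.2, (hK _ (inv_ne_zero ht)).2.1, emb2_symm_diagD h t ht]
  · rw [K.tor_mat h (inv_ne_zero ht)]
    congr 1
    obtain ⟨a, b⟩ := pl_ne_iff.1 h
    unfold torWt
    simp only [Sum.swap_swap, inv_inv]
    by_cases z1 : z = p ∨ z = q
    · have : ¬ (z = q.swap ∨ z = p.swap) := by
        rcases z1 with rfl | rfl
        · simp [b, (swap_ne z).symm]
        · simp [(swap_ne z).symm]
          exact fun e => b (by rw [e, Sum.swap_swap])
      rw [if_pos z1, if_neg this, if_pos z1.symm]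
    · rw [if_neg z1]
      by_cases z2 : z = p.swap ∨ z = q.swap
      · rw [if_pos z2, if_pos z2.symm]
      · rw [if_neg z2, if_neg fun e => z2 e.symm, if_neg fun e => z1 e.symm]

theorem M_symm {p q : II l} (h : pl p ≠ pl q) (t : F) : K.M q p t = K.M p q (-t) := by
  have h' : pl q.swap ≠ pl p.swap := by rw [pl_swap, pl_swap]; exact h.symm
  simp only [M, K.e_anti h, inv_neg]
  rw [← Sum.swap_swap p, ← Sum.swap_swap q]
  simp only [Sum.swap_swap]
  rw [K.e_anti (x := q.swap) (y := p.swap) h']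

theorem tor_symm {p q : II l} (h : pl p ≠ pl q) {t : F} (ht : t ≠ 0) : K.tor q p t = K.tor p q t := by
  have hn : (-1 : F) ≠ 0 := neg_ne_zero.2 one_ne_zero
  have e : ∀ x : F, K.M p q x = K.tor p q x * K.M p q 1 := fun x => by
    rw [tor, mul_assoc, ← K.M_inv h 1, inv_mul_cancel, mul_one]
  show K.M q p t * K.M q p (-1) = _
  rw [K.M_symm h, K.M_symm h, _root_.neg_neg, e (-t)]
  calc K.tor p q (-t) * K.M p q 1 * K.M p q 1 = K.tor p q (-t) * (K.M p q 1 * K.M p q 1) := mul_assoc _ _ _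
    _ = K.tor p q (-t) * (K.tor p q (-1))⁻¹ := by
      congr 1
      rw [tor, ← K.M_inv h 1, _root_.mul_inv_rev, inv_inv]
    _ = K.tor p q t := by
      rw [K.tor_inv h hn, inv_neg, inv_one, K.tor_add h (neg_ne_zero.2 ht) hn]; simp

theorem emb2_diagD_trans {k : ℕ} {a b c : Fin k} (hab : a ≠ b) (hbc : b ≠ c) (hac : a ≠ c) (t : F) (ht : t ≠ 0) :
    emb2 hac (diagD t ht) = emb2 hab (diagD t ht) * emb2 hbc (diagD t ht) := by
  refine Subtype.ext (Matrix.ext_of_mulVec_single fun i => ?_)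
  rw [Matrix.SpecialLinearGroup.coe_mul, ← mulVec_mulVec, emb2_diag hac (g := diagD t ht) rfl,
    emb2_diag hbc (g := diagD t ht) rfl, IsMono.single (emb2_diag hab (g := diagD t ht) rfl)]
  simp only [Equiv.Perm.one_apply]
  congr 1
  by_cases hia : i = a
  · subst hia; simp [hab, hac]
  · by_cases hib : i = b
    · subst hib; simp [hbc, hab.symm, ht]
    · simp [hia, hib]

theorem tor_triple {x y z : II l} (hxy : pl x ≠ pl y) (hyz : pl y ≠ pl z) (hxz : pl x ≠ pl z) {t : F} (ht : t ≠ 0) :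
    K.tor x z t = K.tor x y t * K.tor y.swap z t := by
  obtain ⟨K', s, hK, hs⟩ := K.exists_straight [x, y.swap, z.swap] (by
    intro v hv hv'
    have e : pl v.swap = pl v := pl_swap v
    simp only [List.mem_cons, List.not_mem_nil, or_false] at hv hv'
    rcases hv with rfl | rfl | rfl <;> rcases hv' with h | h | h <;>
      first
        | exact swap_ne _ h
        | (have := congrArg pl h
           simp only [pl_swap] at this
           first
             | exact hxy this | exact hxy this.symm | exact hyz this | exact hyz this.symm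
             | exact hxz this | exact hxz this.symm))
  have h' : pl y.swap ≠ pl z := by rw [pl_swap]; exact hyz
  have fx : flipSet s x = Sum.inl (pl x) := hs x (by simp)
  have fy : flipSet s y.swap = Sum.inl (pl y) := by rw [hs y.swap (by simp), pl_swap]
  have fz : flipSet s z.swap = Sum.inl (pl z) := by rw [hs z.swap (by simp), pl_swap]
  refine amb_ext ?_ (K.tor_mat hxz ht) fun v => ?_
  · rw [Prod.fst_mul, (K.M_tor_straight hxy hK fx fy t ht).2, (K.M_tor_straight h' hK (by rw [fy, pl_swap]) fz t ht).2,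
      (K.M_tor_straight hxz hK fx fz t ht).2, ← map_mul]
    congr 1
    rw [emb2_diagD_trans hxy hyz hxz t ht]
    congr 2
    · simp [pl_swap]
  · rw [diag_mul_mat (K.tor_mat hxy ht) (K.tor_mat h' ht)]
    congr 1
    obtain ⟨a1, b1⟩ := pl_ne_iff.1 hxy
    obtain ⟨a2, b2⟩ := pl_ne_iff.1 hyz
    obtain ⟨a3, b3⟩ := pl_ne_iff.1 hxz
    unfold torWt
    simp only [Sum.swap_swap]
    by_cases v1 : pl v = pl x
    · rcases pl_eq v1 with rfl | rfl
      · simp [a1, b1, a3, b3, (swap_ne v).symm]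
      · have c1 : x.swap ≠ y := fun e => b1 (by rw [← e, Sum.swap_swap])
        have c3 : x.swap ≠ z := fun e => b3 (by rw [← e, Sum.swap_swap])
        have d1 : x.swap ≠ y.swap := fun e => a1 (Sum.swap_leftInverse.injective e)
        have d3 : x.swap ≠ z.swap := fun e => a3 (Sum.swap_leftInverse.injective e)
        simp [c1, c3, d1, d3, swap_ne x]
    by_cases v2 : pl v = pl y
    · rcases pl_eq v2 with rfl | rfl
      · simp [a1.symm, a2, b2, (swap_ne v).symm, ht, Ne.symm (show x.swap ≠ v from fun e => b1 (by rw [← e, Sum.swap_swap]))]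
      · have c2 : y.swap ≠ z := fun e => b2 (by rw [← e, Sum.swap_swap])
        have d2 : y.swap ≠ z.swap := fun e => a2 (Sum.swap_leftInverse.injective e)
        have d1 : x.swap ≠ y.swap := fun e => a1 (Sum.swap_leftInverse.injective e)
        simp [c2, d2, d1.symm, Ne.symm b1, swap_ne y, ht]
    obtain ⟨p1, p2⟩ := pl_ne_iff.1 v1
    obtain ⟨p3, p4⟩ := pl_ne_iff.1 v2
    simp [p1, p2, p3, p4]

/-- The torus: diagonal elements of the first branch times one torus element. -/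
def tors : Set (Amb F G l) :=
  {g | ∃ (h : Matrix.SpecialLinearGroup (Fin (l + 2)) F) (d : Fin (l + 2) → F) (t : F), IsMono h 1 d ∧ t ≠ 0 ∧
    g = K.lv h * K.tor (Sum.inl (ia l)) (Sum.inl (ib l)) t}

end Fork

end Cfsg.Agent.Lie.CTA
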