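import Cfsg.Agent.Lib.Small.OmegaPres.ForkKernel

/-!
The monomial group of a fork embeds in the matrices.
-/

set_option autoImplicit false
set_option linter.unusedSectionVars false
set_option linter.unusedSimpArgs false
set_option linter.style.haveILetI false

namespace Cfsg.Agent.Lie.CTA

open Matrix
open Cfsg.Agent.Lie.PlusGen (pl pl_swap swap_ne)

variable {F : Type*} [Field F] [Fintype F] {G : Type*} [Group G] {l : ℕ}

namespace Fork

variable (K : Fork F G l)

/-- The monomial group. -/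
def monN : Subgroup (Amb F G l) :=
  Subgroup.closure {g | ∃ p q t, pl p ≠ pl q ∧ t ≠ 0 ∧ g = K.M p q t}

theorem M_mem_monN {p q : II l} (h : pl p ≠ pl q) {t : F} (ht : t ≠ 0) : K.M p q t ∈ K.monN :=
  Subgroup.subset_closure ⟨p, q, t, h, ht, rfl⟩

theorem monN_mon {n : Amb F G l} (hn : n ∈ K.monN) : ∃ π k, K.Mon n π k := by
  induction hn using Subgroup.closure_induction_left with
  | one => exact ⟨_, _, Mon.one⟩
  | mul_left y hy a _ ha =>
    obtain ⟨p, q, t, h, ht, rfl⟩ := hy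
    obtain ⟨π, k, ha⟩ := ha
    exact ⟨_, _, (K.M_mon h ht).mul ha⟩
  | inv_mul_cancel y hy a _ ha =>
    obtain ⟨p, q, t, h, ht, rfl⟩ := hy
    obtain ⟨π, k, ha⟩ := ha
    rw [K.M_inv h]
    exact ⟨_, _, (K.M_mon h (neg_ne_zero.2 ht)).mul ha⟩

theorem Mon.perm_unique {n : Amb F G l} {π π' : Equiv.Perm (II l)} {k k' : II l → F} (h : K.Mon n π k)
    (h' : K.Mon n π' k') : π = π' := by
  refine Equiv.ext fun z => ?_
  have e := (h.mat z).symm.trans (h'.mat z)
  by_contra hne
  have := congrFun e (π z)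
  rw [Pi.single_eq_same, Pi.single_eq_of_ne hne] at this
  exact h.k_ne z this

/-- The permutation of a monomial element. -/
noncomputable def perm (n : ↥K.monN) : Equiv.Perm (II l) := (K.monN_mon n.2).choose

theorem perm_eq {n : ↥K.monN} {π : Equiv.Perm (II l)} {k : II l → F} (h : K.Mon n.1 π k) : K.perm n = π :=
  Mon.perm_unique K (K.monN_mon n.2).choose_spec.choose_spec h

/-- The permutation homomorphism. -/
noncomputable def permHom : ↥K.monN →* Equiv.Perm (II l) :=
  MonoidHom.mk' K.perm fun a b =>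
    K.perm_eq (((K.monN_mon a.2).choose_spec.choose_spec).mul (K.monN_mon b.2).choose_spec.choose_spec)

theorem permHom_swap (n : ↥K.monN) (z : II l) : K.permHom n z.swap = (K.permHom n z).swap :=
  (K.monN_mon n.2).choose_spec.choose_spec.comm_swap z

/-- The subgroup of torus elements. -/
def torN : Subgroup ↥K.monN :=
  Subgroup.closure {g | ∃ p q t, pl p ≠ pl q ∧ t ≠ 0 ∧ g.1 = K.tor p q t}

theorem tor_mem_monN {p q : II l} (h : pl p ≠ pl q) {t : F} (ht : t ≠ 0) : K.tor p q t ∈ K.monN :=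
  mul_mem (K.M_mem_monN h ht) (K.M_mem_monN h (neg_ne_zero.2 one_ne_zero))

theorem torN_le {g : ↥K.monN} (hg : g ∈ K.torN) : g.1 ∈ K.torG := by
  induction hg using Subgroup.closure_induction with
  | mem g hg =>
    obtain ⟨p, q, t, h, ht, e⟩ := hg
    rw [e]; exact K.tor_mem h ht
  | one => exact one_mem _
  | mul a b _ _ ha hb => exact mul_mem ha hb
  | inv a _ ha => exact inv_mem ha

instance torN_normal : K.torN.Normal := by
  refine ⟨fun g hg n => ?_⟩
  induction hg using Subgroup.closure_induction with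
  | mem g hg =>
    obtain ⟨p, q, t, h, ht, e⟩ := hg
    obtain ⟨π, k, hn⟩ := K.monN_mon n.2
    refine Subgroup.subset_closure ⟨π p, π q, t, hn.pl_ne h, ht, ?_⟩
    rw [Subgroup.coe_mul, Subgroup.coe_mul, Subgroup.coe_inv, e, hn.conj_tor K h ht]
  | one => simp
  | mul a b _ _ ha hb =>
    rw [show n * (a * b) * n⁻¹ = n * a * n⁻¹ * (n * b * n⁻¹) by group]; exact mul_mem ha hb
  | inv a _ ha =>
    rw [show n * a⁻¹ * n⁻¹ = (n * a * n⁻¹)⁻¹ by group]; exact inv_mem ha

theorem torN_perm {g : ↥K.monN} (hg : g ∈ K.torN) : K.permHom g = 1 := by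
  refine MonoidHom.mem_ker.1 (Subgroup.closure_le (K := K.permHom.ker) |>.2 ?_ hg)
  rintro g ⟨p, q, t, h, ht, e⟩
  refine Equiv.ext fun z => ?_
  obtain ⟨π, k, hn⟩ := K.monN_mon g.2
  show K.perm g z = z
  rw [K.perm_eq hn]
  have e1 := hn.mat z
  rw [e, K.tor_mat h ht] at e1
  by_contra hne
  have := congrFun e1 (π z)
  rw [Pi.single_eq_same, Pi.single_eq_of_ne hne] at this
  exact hn.k_ne z this.symm

/-- The monomial group modulo its torus. -/
abbrev WG : Type _ := ↥K.monN ⧸ K.torN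

/-- The permutation of a class. -/
noncomputable def wperm : K.WG →* Equiv.Perm (II l) :=
  QuotientGroup.lift K.torN K.permHom fun _ hg => K.torN_perm hg

open scoped _root_.Classical in
/-- The class of a monomial element of a root. -/
noncomputable def mc (p q : II l) : K.WG :=
  if h : pl p ≠ pl q then QuotientGroup.mk ⟨K.M p q 1, K.M_mem_monN h one_ne_zero⟩ else 1

theorem mc_eq {p q : II l} (h : pl p ≠ pl q) {t : F} (ht : t ≠ 0) :
    (QuotientGroup.mk ⟨K.M p q t, K.M_mem_monN h ht⟩ : K.WG) = K.mc p q := by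
  rw [mc, dif_pos h]
  have e : (⟨K.M p q t, K.M_mem_monN h ht⟩ : ↥K.monN) =
      ⟨K.tor p q t, K.tor_mem_monN h ht⟩ * ⟨K.M p q 1, K.M_mem_monN h one_ne_zero⟩ :=
    Subtype.ext (K.M_eq_tor t h)
  have hT : (⟨K.tor p q t, K.tor_mem_monN h ht⟩ : ↥K.monN) ∈ K.torN :=
    Subgroup.subset_closure ⟨p, q, t, h, ht, rfl⟩
  rw [e, QuotientGroup.mk_mul, (QuotientGroup.eq_one_iff _).2 hT, one_mul]

theorem wperm_mc {p q : II l} (h : pl p ≠ pl q) : K.wperm (K.mc p q) = refl p q := by
  rw [mc, dif_pos h]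
  exact K.perm_eq (n := ⟨K.M p q 1, K.M_mem_monN h one_ne_zero⟩) (K.M_mon h one_ne_zero)

theorem mc_sq {p q : II l} (h : pl p ≠ pl q) : K.mc p q * K.mc p q = 1 := by
  nth_rw 2 [← K.mc_eq h (neg_ne_zero.2 one_ne_zero)]
  rw [mc, dif_pos h, ← QuotientGroup.mk_mul]
  have : (⟨K.M p q 1, K.M_mem_monN h one_ne_zero⟩ * ⟨K.M p q (-1), K.M_mem_monN h (neg_ne_zero.2 one_ne_zero)⟩ :
      ↥K.monN) = 1 :=
    Subtype.ext (by
      show K.M p q 1 * K.M p q (-1) = 1
      rw [← K.M_inv h 1, mul_inv_cancel])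
  rw [this]; rfl

theorem mc_symm {p q : II l} (h : pl p ≠ pl q) : K.mc q p = K.mc p q := by
  rw [← K.mc_eq h.symm one_ne_zero, ← K.mc_eq h (t := -1) (neg_ne_zero.2 one_ne_zero)]
  congr 1
  exact Subtype.ext (K.M_symm h 1)

theorem mc_conj (x : K.WG) {p q : II l} (h : pl p ≠ pl q) :
    x * K.mc p q * x⁻¹ = K.mc (K.wperm x p) (K.wperm x q) := by
  obtain ⟨n, rfl⟩ := QuotientGroup.mk_surjective x
  obtain ⟨π, k, hn⟩ := K.monN_mon n.2
  have hk : (1 : F) / (k p * k q) ≠ 0 := div_ne_zero one_ne_zero (mul_ne_zero (hn.k_ne p) (hn.k_ne q))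
  rw [show K.wperm (QuotientGroup.mk n) = π from K.perm_eq hn, ← K.mc_eq h one_ne_zero,
    ← K.mc_eq (hn.pl_ne h) hk, ← QuotientGroup.mk_inv, ← QuotientGroup.mk_mul, ← QuotientGroup.mk_mul]
  congr 1
  exact Subtype.ext (hn.conj_M K h 1)

theorem mc_neg {p q : II l} (h : pl p ≠ pl q) : K.mc q.swap p.swap = K.mc p q := by
  have e := K.mc_conj (K.mc p q) h
  obtain ⟨r1, -, -, r4, -⟩ := refl_val h
  rw [mul_inv_cancel_right, K.wperm_mc h, r1, r4] at e
  exact e.symm

theorem mc_commute {p q z w : II l} (h : pl p ≠ pl q) (h' : pl z ≠ pl w) (e1 : refl p q z = z ∨ refl p q z = w)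
    (e2 : refl p q w = w ∨ refl p q w = z) : Commute (K.mc p q) (K.mc z w) := by
  have e := K.mc_conj (K.mc p q) h'
  rw [K.wperm_mc h] at e
  have hne : refl p q z ≠ refl p q w := (refl p q).injective.ne (pl_ne_iff.1 h').1
  have : K.mc (refl p q z) (refl p q w) = K.mc z w := by
    rcases e1 with e1 | e1 <;> rcases e2 with e2 | e2
    · rw [e1, e2]
    · exact absurd (e1.trans e2.symm) hne
    · exact absurd (e1.trans e2.symm) hne
    · rw [e1, e2, K.mc_symm h']
  rw [this, mul_inv_eq_iff_eq_mul] at e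
  exact e

/-- The class of a double flip. -/
noncomputable def fl (a b : Fin (l + 2)) : K.WG := K.mc (Sum.inl a) (Sum.inl b) * K.mc (Sum.inl a) (Sum.inr b)

theorem mc_opp {a b : Fin (l + 2)} (h : a ≠ b) :
    Commute (K.mc (Sum.inl a) (Sum.inl b)) (K.mc (Sum.inl a) (Sum.inr b)) := by
  obtain ⟨r1, r2, -, -, -⟩ := refl_val (p := (Sum.inl a : II l)) (q := Sum.inl b) h
  exact K.mc_commute h h (Or.inr r1) (Or.inr r2)

theorem wperm_fl {a b : Fin (l + 2)} (h : a ≠ b) (z : II l) :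
    K.wperm (K.fl a b) z = if pl z = a ∨ pl z = b then z.swap else z := by
  obtain ⟨r1, r2, r3, r4, r5⟩ := refl_val (p := (Sum.inl a : II l)) (q := Sum.inl b) h
  obtain ⟨s1, s2, s3, s4, s5⟩ := refl_val (p := (Sum.inl a : II l)) (q := Sum.inr b) h
  simp only [Sum.swap_inl, Sum.swap_inr] at r1 r2 r3 r4 r5 s1 s2 s3 s4 s5
  rw [fl, map_mul, K.wperm_mc (show pl (Sum.inl a : II l) ≠ pl (Sum.inl b) from h),
    K.wperm_mc (show pl (Sum.inl a : II l) ≠ pl (Sum.inr b) from h), Equiv.Perm.mul_apply]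
  rcases z with i | i <;> by_cases hi : i = a <;> by_cases hj : i = b
  all_goals try subst hi
  all_goals try subst hj
  all_goals first
    | exact absurd rfl h
    | (simp [pl, r1, r2, r3, r4, s1, s2, s3, s4]; done)
    | (rw [s5 _ (by simp [*]) (by simp [*]) (by simp [*]) (by simp [*]),
        r5 _ (by simp [*]) (by simp [*]) (by simp [*]) (by simp [*])]
       simp [pl, *])

theorem fl_symm {a b : Fin (l + 2)} (h : a ≠ b) : K.fl b a = K.fl a b := by
  rw [fl, fl, K.mc_symm (p := Sum.inl a) (q := Sum.inl b) h,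
    show K.mc (Sum.inl b) (Sum.inr a) = K.mc (Sum.inl a) (Sum.inr b) from
      K.mc_neg (p := Sum.inl a) (q := Sum.inr b) h]

theorem fl_sq {a b : Fin (l + 2)} (h : a ≠ b) : K.fl a b * K.fl a b = 1 := by
  have hc := K.mc_opp h
  rw [fl, show ∀ x y : K.WG, x * y * (x * y) = x * (y * x) * y from fun x y => by group, ← hc.eq, ← mul_assoc,
    K.mc_sq (show pl (Sum.inl a : II l) ≠ pl (Sum.inl b) from h), one_mul,
    K.mc_sq (show pl (Sum.inl a : II l) ≠ pl (Sum.inr b) from h)]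

theorem fl_commute {a b c d : Fin (l + 2)} (h : a ≠ b) (h' : c ≠ d) : Commute (K.fl a b) (K.fl c d) := by
  have key : ∀ q : II l, pl q = d → K.fl a b * K.mc (Sum.inl c) q * (K.fl a b)⁻¹ = K.mc (Sum.inl c) q ∨
      K.fl a b * K.mc (Sum.inl c) q * (K.fl a b)⁻¹ = K.mc (Sum.inl c) q.swap := fun q hq => by
    have hne : pl (Sum.inl c : II l) ≠ pl q := fun e => h' (e.trans hq)
    rw [K.mc_conj _ hne, K.wperm_fl h, K.wperm_fl h]
    by_cases h1 : pl (Sum.inl c : II l) = a ∨ pl (Sum.inl c : II l) = b <;> by_cases h2 : pl q = a ∨ pl q = b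
    · left; rw [if_pos h1, if_pos h2, ← K.mc_neg hne, K.mc_symm (by rw [pl_swap, pl_swap]; exact hne.symm)]
    · right
      have hne' : pl (Sum.inl c : II l) ≠ pl q.swap := by rw [pl_swap]; exact hne
      rw [if_pos h1, if_neg h2, ← K.mc_neg hne', Sum.swap_swap,
        K.mc_symm (p := q) (q := (Sum.inl c : II l).swap) (by rw [pl_swap]; exact hne.symm)]
    · right; rw [if_neg h1, if_pos h2]
    · left; rw [if_neg h1, if_neg h2]
  have e : K.fl a b * K.fl c d * (K.fl a b)⁻¹ = K.fl c d := by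
    rw [show K.fl a b * K.fl c d * (K.fl a b)⁻¹ = (K.fl a b * K.mc (Sum.inl c) (Sum.inl d) * (K.fl a b)⁻¹) *
      (K.fl a b * K.mc (Sum.inl c) (Sum.inr d) * (K.fl a b)⁻¹) by rw [fl, fl]; group]
    have hi : Function.Injective fun y => K.fl a b * y * (K.fl a b)⁻¹ := fun y y' e => by simpa using e
    rcases key (Sum.inl d) rfl with e1 | e1 <;> rcases key (Sum.inr d) rfl with e2 | e2 <;>
      (try simp only [Sum.swap_inl, Sum.swap_inr] at *)
    · rw [e1, e2]; rfl
    · have e3 : K.mc (Sum.inl c) (Sum.inl d) = K.mc (Sum.inl c) (Sum.inr d) := hi (e1.trans e2.symm)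
      rw [e1, e2]; show _ = _ * _; rw [← e3]
    · have e3 : K.mc (Sum.inl c) (Sum.inl d) = K.mc (Sum.inl c) (Sum.inr d) := hi (e1.trans e2.symm)
      rw [e1, e2]; show _ = _ * _; rw [e3]
    · rw [e1, e2]; exact ((K.mc_opp h').eq).symm
  exact mul_inv_eq_iff_eq_mul.1 e

theorem fl_trans {a b c : Fin (l + 2)} (hab : a ≠ b) (hac : a ≠ c) (hbc : b ≠ c) :
    K.fl a c = K.fl a b * K.fl b c := by
  have hP : pl (Sum.inl b : II l) ≠ pl (Sum.inr c : II l) := hbc
  have hR : pl (Sum.inl b : II l) ≠ pl (Sum.inl c : II l) := hbc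
  set f := K.fl a b
  set P := K.mc (Sum.inl b) (Sum.inr c)
  set R := K.mc (Sum.inl b) (Sum.inl c)
  have hPP : P⁻¹ = P := inv_eq_of_mul_eq_one_right (K.mc_sq hP)
  have hff : f⁻¹ = f := inv_eq_of_mul_eq_one_right (K.fl_sq hab)
  have e1 : f * P * f = R := by
    nth_rw 2 [← hff]
    rw [K.mc_conj _ hP, K.wperm_fl hab, K.wperm_fl hab]
    simp [pl, hac.symm, hbc.symm]
    show _ = K.mc (Sum.inl b) (Sum.inl c)
    rw [← K.mc_neg hR, Sum.swap_inl, Sum.swap_inl, K.mc_symm (p := Sum.inr c) (q := Sum.inr b) hbc.symm]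
  obtain ⟨r1, r2, r3, r4, r5⟩ := refl_val hP
  have e2 : P * f * P⁻¹ = K.fl a c := by
    rw [show P * f * P⁻¹ = (P * K.mc (Sum.inl a) (Sum.inl b) * P⁻¹) * (P * K.mc (Sum.inl a) (Sum.inr b) * P⁻¹) by
      simp only [f, fl]; group]
    rw [K.mc_conj _ (show pl (Sum.inl a : II l) ≠ pl (Sum.inl b) from hab),
      K.mc_conj _ (show pl (Sum.inl a : II l) ≠ pl (Sum.inr b) from hab)]
    simp only [P, K.wperm_mc hP, r1, r5 (Sum.inl a) (by simp [hab]) (by simp [hac]) (by simp) (by simp)]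
    simp only [Sum.swap_inl] at r3
    rw [r3]
    rfl
  have hRP : R * P = K.fl b c := rfl
  calc K.fl a c = P * f * P := by rw [← e2, hPP]
    _ = f * (f * P * f) * P := by
      have h1 : f * f = 1 := K.fl_sq hab
      rw [show f * (f * P * f) * P = f * f * (P * f * P) by group, h1, one_mul]
    _ = f * K.fl b c := by rw [e1, mul_assoc, hRP]

/-- The flips in a set of places. -/
def flG (s : Finset (Fin (l + 2))) : Subgroup K.WG :=
  Subgroup.closure {x | ∃ a ∈ s, a ≠ ib l ∧ x = K.fl a (ib l)}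

theorem flG_fix {s : Finset (Fin (l + 2))} {x : K.WG} (hx : x ∈ K.flG s) {i : Fin (l + 2)} (hi : i ∉ s)
    (hib : i ≠ ib l) : K.wperm x (Sum.inl i) = Sum.inl i := by
  induction hx using Subgroup.closure_induction with
  | mem x hx =>
    obtain ⟨a, ha, hab, rfl⟩ := hx
    rw [K.wperm_fl hab, if_neg]
    rintro (e | e)
    · exact hi (by rw [show i = a from e]; exact ha)
    · exact hib e
  | one => simp
  | mul a b _ _ ha hb => rw [map_mul, Equiv.Perm.mul_apply, hb, ha]
  | inv a _ ha => rw [map_inv]; nth_rw 1 [← ha]; exact Equiv.symm_apply_apply _ _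

theorem flG_comm {s : Finset (Fin (l + 2))} {x : K.WG} (hx : x ∈ K.flG s) {a : Fin (l + 2)} (ha : a ≠ ib l) :
    Commute (K.fl a (ib l)) x := by
  induction hx using Subgroup.closure_induction with
  | mem x hx => obtain ⟨b, -, hb, rfl⟩ := hx; exact K.fl_commute ha hb
  | one => exact Commute.one_right _
  | mul a b _ _ ha hb => exact ha.mul_right hb
  | inv a _ ha => exact ha.inv_right

theorem flG_inj : ∀ s : Finset (Fin (l + 2)), ∀ x ∈ K.flG s, (∀ i, K.wperm x (Sum.inl i) = Sum.inl i) → x = 1 := by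
  intro s
  induction s using Finset.induction with
  | empty =>
    intro x hx _
    have : K.flG ∅ = ⊥ := by
      rw [flG, Subgroup.closure_eq_bot_iff]
      rintro y ⟨a, ha, -⟩; simp at ha
    rwa [this, Subgroup.mem_bot] at hx
  | insert a s has ih =>
    intro x hx hfix
    by_cases hab : a = ib l
    · refine ih x (Subgroup.closure_mono ?_ hx) hfix
      rintro y ⟨b, hb, hbb, rfl⟩
      exact ⟨b, (Finset.mem_insert.1 hb).resolve_left (fun e => hbb (e.trans hab)), hbb, rfl⟩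
    obtain hx' | ⟨y, hy, rfl⟩ : x ∈ K.flG s ∨ ∃ y ∈ K.flG s, x = K.fl a (ib l) * y := by
      clear hfix
      induction hx using Subgroup.closure_induction with
      | mem x hx =>
        obtain ⟨b, hb, hbb, rfl⟩ := hx
        rcases Finset.mem_insert.1 hb with rfl | hb
        · exact Or.inr ⟨1, one_mem _, (mul_one _).symm⟩
        · exact Or.inl (Subgroup.subset_closure ⟨b, hb, hbb, rfl⟩)
      | one => exact Or.inl (one_mem _)
      | mul u v _ _ hu hv =>
        rcases hu with hu | ⟨u, hu', rfl⟩ <;> rcases hv with hv | ⟨v, hv', rfl⟩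
        · exact Or.inl (mul_mem hu hv)
        · exact Or.inr ⟨u * v, mul_mem hu hv', by rw [← mul_assoc, ← (K.flG_comm hu hab).eq, mul_assoc]⟩
        · exact Or.inr ⟨u * v, mul_mem hu' hv, by rw [mul_assoc]⟩
        · refine Or.inl ?_
          rw [show K.fl a (ib l) * u * (K.fl a (ib l) * v) = K.fl a (ib l) * (u * K.fl a (ib l)) * v by group,
            ← (K.flG_comm hu' hab).eq, ← mul_assoc, K.fl_sq hab, one_mul]
          exact mul_mem hu' hv'
      | inv u _ hu =>
        rcases hu with hu | ⟨u, hu', rfl⟩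
        · exact Or.inl (inv_mem hu)
        · refine Or.inr ⟨u⁻¹, inv_mem hu', ?_⟩
          rw [_root_.mul_inv_rev, inv_eq_of_mul_eq_one_right (K.fl_sq hab)]
          exact ((K.flG_comm (inv_mem hu') hab).eq).symm
    · exact ih x hx' hfix
    · exfalso
      have h1 := hfix a
      rw [map_mul, Equiv.Perm.mul_apply, K.flG_fix hy has hab, K.wperm_fl hab] at h1
      simp [pl] at h1

/-- Classes coming from the first branch. -/
def permG : Subgroup K.WG where
  carrier := {x | ∃ (g : Matrix.SpecialLinearGroup (Fin (l + 2)) F) (π : Equiv.Perm (Fin (l + 2)))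
    (d : Fin (l + 2) → F) (hm : K.lv g ∈ K.monN), IsMono g π d ∧ x = QuotientGroup.mk ⟨K.lv g, hm⟩}
  one_mem' := ⟨1, 1, fun _ => 1, by rw [map_one]; exact one_mem _, fun i => one_mulVec _, by
    rw [← QuotientGroup.mk_one]; congr 1; exact Subtype.ext (map_one _).symm⟩
  mul_mem' := by
    rintro _ _ ⟨g, π, d, hm, hg, rfl⟩ ⟨g', π', d', hm', hg', rfl⟩
    exact ⟨g * g', _, _, by rw [map_mul]; exact mul_mem hm hm', mono_mul hg hg', by
      rw [← QuotientGroup.mk_mul]; congr 1; exact Subtype.ext (map_mul _ _ _).symm⟩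
  inv_mem' := by
    rintro _ ⟨g, π, d, hm, hg, rfl⟩
    exact ⟨g⁻¹, _, _, by rw [map_inv]; exact inv_mem hm, mono_inv hg, by
      rw [← QuotientGroup.mk_inv]; congr 1; exact Subtype.ext (map_inv _ _).symm⟩

theorem mc_perm {i j : Fin (l + 2)} (hij : i ≠ j) : K.mc (Sum.inl i) (Sum.inr j) ∈ K.permG := by
  have h : pl (Sum.inl i : II l) ≠ pl (Sum.inr j : II l) := hij
  have anti : K.M (Sum.inl i) (Sum.inr j) 1 = K.lv (emb2 hij (antiD 1 one_ne_zero)) := by
    rw [antiD_eq, map_mul (emb2 hij), map_mul (emb2 hij), emb2_ue hij, emb2_le' hij, map_mul, map_mul,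
      K.lv_tv hij, K.lv_tv hij.symm]
    rfl
  refine ⟨_, _, _, ?_, emb2_anti hij (g := antiD 1 one_ne_zero) rfl, ?_⟩
  · rw [← anti]; exact K.M_mem_monN h one_ne_zero
  · rw [← K.mc_eq h one_ne_zero]; congr 1; exact Subtype.ext anti

theorem perm_norm {i j : Fin (l + 2)} (hij : i ≠ j) {e : K.WG} (he : e ∈ K.flG Finset.univ) :
    K.mc (Sum.inl i) (Sum.inr j) * e * (K.mc (Sum.inl i) (Sum.inr j))⁻¹ ∈ K.flG Finset.univ := by
  have gen : ∀ a b, a ≠ b → K.fl a b ∈ K.flG Finset.univ := by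
    intro a b hab
    by_cases hb : b = ib l
    · subst hb; exact Subgroup.subset_closure ⟨a, Finset.mem_univ _, hab, rfl⟩
    by_cases ha : a = ib l
    · subst ha
      rw [K.fl_symm hab.symm]
      exact Subgroup.subset_closure ⟨b, Finset.mem_univ _, hb, rfl⟩
    rw [K.fl_trans (b := ib l) ha hab (Ne.symm hb), K.fl_symm hb]
    exact mul_mem (Subgroup.subset_closure ⟨a, Finset.mem_univ _, ha, rfl⟩)
      (Subgroup.subset_closure ⟨b, Finset.mem_univ _, hb, rfl⟩)
  set x := K.mc (Sum.inl i) (Sum.inr j)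
  refine (show K.flG Finset.univ ≤ (K.flG Finset.univ).comap (MulAut.conj x).toMonoidHom from
    (Subgroup.closure_le _).2 ?_) he
  rintro _ ⟨a, -, hab, rfl⟩
  show x * K.fl a (ib l) * x⁻¹ ∈ K.flG Finset.univ
  rw [show x * K.fl a (ib l) * x⁻¹ = (x * K.mc (Sum.inl a) (Sum.inl (ib l)) * x⁻¹) *
      (x * K.mc (Sum.inl a) (Sum.inr (ib l)) * x⁻¹) by rw [fl]; group,
    K.mc_conj _ (show pl (Sum.inl a : II l) ≠ pl (Sum.inl (ib l)) from hab),
    K.mc_conj _ (show pl (Sum.inl a : II l) ≠ pl (Sum.inr (ib l)) from hab)]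
  have hr : ∀ c, K.wperm x (Sum.inl c) = Sum.inl (Equiv.swap i j c) ∧
      K.wperm x (Sum.inr c) = Sum.inr (Equiv.swap i j c) := fun c => by
    rw [show K.wperm x = refl (Sum.inl i) (Sum.inr j) from K.wperm_mc hij]
    obtain ⟨r1, r2, r3, r4, r5⟩ := refl_val (p := (Sum.inl i : II l)) (q := Sum.inr j) hij
    simp only [Sum.swap_inl, Sum.swap_inr] at r1 r2 r3 r4 r5
    by_cases h1 : c = i
    · subst h1; simp [r1, r3]
    by_cases h2 : c = j
    · subst h2; simp [r2, r4]
    rw [Equiv.swap_apply_of_ne_of_ne h1 h2]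
    exact ⟨r5 _ (by simp [h1]) (by simp [h2]) (by simp) (by simp), r5 _ (by simp) (by simp) (by simp [h1]) (by simp [h2])⟩
  rw [(hr a).1, (hr (ib l)).1, (hr (ib l)).2]
  exact gen _ _ ((Equiv.swap i j).injective.ne hab)

theorem WG_split (x : K.WG) : ∃ e ∈ K.flG Finset.univ, ∃ p ∈ K.permG, x = e * p := by
  obtain ⟨⟨n, hn⟩, rfl⟩ := QuotientGroup.mk_surjective x
  have step : ∀ (p q : II l), pl p ≠ pl q → ∀ e ∈ K.flG Finset.univ, ∀ σ ∈ K.permG,
      ∃ e' ∈ K.flG Finset.univ, ∃ σ' ∈ K.permG, K.mc p q * (e * σ) = e' * σ' := by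
    intro p q h e he σ hσ
    have lev : ∀ i j, i ≠ j → ∃ e' ∈ K.flG Finset.univ, ∃ σ' ∈ K.permG,
        K.mc (Sum.inl i) (Sum.inr j) * (e * σ) = e' * σ' := fun i j hij =>
      ⟨_, K.perm_norm hij he, _, mul_mem (K.mc_perm hij) hσ, by group⟩
    have both : ∀ i j, i ≠ j → ∃ e' ∈ K.flG Finset.univ, ∃ σ' ∈ K.permG,
        K.mc (Sum.inl i) (Sum.inl j) * (e * σ) = e' * σ' := by
      intro i j hij
      obtain ⟨e', he', σ', hσ', e1⟩ := lev i j hij
      have hfl : K.fl i j ∈ K.flG Finset.univ := by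
        by_cases hjb : j = ib l
        · subst hjb; exact Subgroup.subset_closure ⟨i, Finset.mem_univ _, hij, rfl⟩
        by_cases hib : i = ib l
        · subst hib
          rw [K.fl_symm hij.symm]
          exact Subgroup.subset_closure ⟨j, Finset.mem_univ _, hjb, rfl⟩
        rw [K.fl_trans (b := ib l) hib hij (Ne.symm hjb), K.fl_symm hjb]
        exact mul_mem (Subgroup.subset_closure ⟨i, Finset.mem_univ _, hib, rfl⟩)
          (Subgroup.subset_closure ⟨j, Finset.mem_univ _, hjb, rfl⟩)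
      have em : K.mc (Sum.inl i) (Sum.inl j) = K.fl i j * K.mc (Sum.inl i) (Sum.inr j) := by
        rw [fl, mul_assoc, K.mc_sq (show pl (Sum.inl i : II l) ≠ pl (Sum.inr j) from hij), mul_one]
      exact ⟨_, mul_mem hfl he', σ', hσ', by rw [em, mul_assoc, e1, mul_assoc]⟩
    rcases p with i | i <;> rcases q with j | j
    · exact both i j h
    · exact lev i j h
    · rw [K.mc_symm (p := Sum.inl j) (q := Sum.inr i) (Ne.symm h)]; exact lev j i (Ne.symm h)
    · rw [show K.mc (Sum.inr i) (Sum.inr j) = K.mc (Sum.inl j) (Sum.inl i) from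
        K.mc_neg (p := Sum.inl j) (q := Sum.inl i) (Ne.symm h)]
      exact both j i (Ne.symm h)
  induction hn using Subgroup.closure_induction_left with
  | one => exact ⟨1, one_mem _, 1, one_mem _, by rw [one_mul]; rfl⟩
  | mul_left y hy a ha ih =>
    obtain ⟨p, q, t, h, ht, rfl⟩ := hy
    obtain ⟨e, he, σ, hσ, e1⟩ := ih
    obtain ⟨e', he', σ', hσ', e2⟩ := step p q h e he σ hσ
    refine ⟨e', he', σ', hσ', ?_⟩
    rw [← e2, ← e1, ← K.mc_eq h ht]; rfl
  | inv_mul_cancel y hy a ha ih =>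
    obtain ⟨p, q, t, h, ht, rfl⟩ := hy
    obtain ⟨e, he, σ, hσ, e1⟩ := ih
    obtain ⟨e', he', σ', hσ', e2⟩ := step p q h e he σ hσ
    refine ⟨e', he', σ', hσ', ?_⟩
    rw [← e2, ← e1, ← K.mc_eq h (neg_ne_zero.2 ht), ← QuotientGroup.mk_mul]
    congr 1
    exact Subtype.ext (by show (K.M p q t)⁻¹ * a = K.M p q (-t) * a; rw [K.M_inv h])

theorem flG_two {e : K.WG} (he : e ∈ K.flG Finset.univ) (z : II l) : K.wperm e z = z ∨ K.wperm e z = z.swap := by
  induction he using Subgroup.closure_induction generalizing z with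
  | mem x hx =>
    obtain ⟨a, -, hab, rfl⟩ := hx
    rw [K.wperm_fl hab]; split_ifs
    · exact Or.inr rfl
    · exact Or.inl rfl
  | one => exact Or.inl (by simp)
  | mul a b _ _ ha hb =>
    rw [map_mul, Equiv.Perm.mul_apply]
    rcases hb z with e | e <;> rw [e]
    · exact ha z
    · rcases ha z.swap with e | e <;> rw [e]
      · exact Or.inr rfl
      · exact Or.inl (Sum.swap_swap z)
  | inv a _ ha =>
    rw [map_inv]
    rcases ha z with e | e
    · exact Or.inl (by nth_rw 1 [← e]; exact Equiv.symm_apply_apply _ _)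
    · rcases ha z.swap with e' | e'
      · exact absurd ((K.wperm a).injective (e.trans e'.symm)) (swap_ne z).symm
      · rw [Sum.swap_swap] at e'
        exact Or.inr (by nth_rw 1 [← e']; exact Equiv.symm_apply_apply _ _)

/-- The monomial group embeds in the matrices. -/
theorem monN_inj (hz : K.Φ (emb2 (iab l) (-1)) * K.Φ' (emb2 (iab l) (-1)) = 1) {n : Amb F G l}
    (hn : n ∈ K.monN) (h1 : n.2 = 1) : n = 1 := by
  obtain ⟨e, he, σ, hσ, hx⟩ := K.WG_split (QuotientGroup.mk ⟨n, hn⟩)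
  obtain ⟨g, π, d, hm, hg, rfl⟩ := hσ
  have hperm1 : K.wperm (QuotientGroup.mk ⟨n, hn⟩) = 1 := by
    refine Equiv.ext fun z => ?_
    obtain ⟨ρ, k, hρ⟩ := K.monN_mon hn
    rw [show K.wperm (QuotientGroup.mk ⟨n, hn⟩) = ρ from K.perm_eq (n := ⟨n, hn⟩) hρ]
    have e1 := hρ.mat z
    rw [h1, Units.val_one, one_mulVec] at e1
    by_contra hne
    have := congrFun e1 (ρ z)
    rw [Equiv.Perm.one_apply] at hne
    rw [Pi.single_eq_same, Pi.single_eq_of_ne hne] at this
    exact hρ.k_ne z this.symm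
  have hσp : K.wperm (QuotientGroup.mk ⟨K.lv g, hm⟩) = Equiv.sumCongr π π :=
    K.perm_eq (n := ⟨K.lv g, hm⟩) (K.lv_mon hg)
  have hcomb : ∀ i, K.wperm e (Sum.inl (π i)) = Sum.inl i := fun i => by
    have := congrArg (fun p : Equiv.Perm (II l) => p (Sum.inl i)) (show K.wperm e * Equiv.sumCongr π π = 1 by
      rw [← hσp, ← map_mul, ← hx, hperm1])
    simpa using this
  have hπ : π = 1 := Equiv.ext fun i => by
    rcases K.flG_two he (Sum.inl (π i)) with e1 | e1 <;> rw [hcomb i] at e1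
    · exact (Sum.inl.inj e1).symm
    · simp at e1
  subst hπ
  have he1 : e = 1 := K.flG_inj _ e he fun i => by simpa using hcomb i
  rw [he1, one_mul] at hx
  refine K.torG_inj hz ?_ h1
  have hq := QuotientGroup.eq.1 hx.symm
  have := mul_mem (K.lv_mem_torG hg) (K.torN_le hq)
  simpa using this

end Fork

end Cfsg.Agent.Lie.CTA
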