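import Cfsg.Agent.Lib.Small.OmegaPres.Centre
import Cfsg.Agent.Lib.Small.BoundedPres.SLnShortAll

/-!
Short presentations of the orthogonal groups of plus type.
-/

set_option autoImplicit false
set_option linter.unusedSectionVars false
set_option linter.unusedSimpArgs false
set_option linter.style.haveILetI false

namespace Cfsg.Agent.Small.OmegaPres

open Matrix Cfsg.Agent.Lie.CTA Cfsg.Agent.Small.BoundedPres
open scoped commutatorElement

variable {F : Type*} [Field F] [Fintype F] {l : ℕ}

local notation "SL2" => Matrix.SpecialLinearGroup (Fin 2) F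

theorem kapm_comm_blk (hl : 2 ≤ l) (g : SL2) (z : SL2 × Matrix.SpecialLinearGroup (Fin l) F) :
    Commute (kapm (two_one hl) g) (Fork.levi (blk hl z)) := by
  obtain ⟨a, b⟩ := z
  have e : blk hl (a, b) = emb2 (iab l) a * lowEmb l b := rfl
  rw [e, map_mul]
  clear e
  refine (kapm_comm_pair _ g a).mul_right ?_
  haveI : Nontrivial (Fin l) := Fin.nontrivial_iff_two_le.2 hl
  have hb : b ∈ Subgroup.closure {g : Matrix.SpecialLinearGroup (Fin l) F |
      ∃ (i j : Fin l) (h : i ≠ j) (c : F), g = Matrix.SpecialLinearGroup.transvection h c} := by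
    rw [Cfsg.Agent.Classical.sl_closure_transvections]; exact Subgroup.mem_top b
  induction hb using Subgroup.closure_induction with
  | mem x hx =>
    obtain ⟨i, j, hij, c, rfl⟩ := hx
    rw [show Matrix.SpecialLinearGroup.transvection hij c = tv' i j c by rw [tv', dif_pos hij], lowEmb_tv hij]
    exact kapm_comm_low _ g ((Fin.castSucc_injective _).ne ((Fin.castSucc_injective _).ne hij)) (low_ne i).1
      (low_ne i).2 (low_ne j).1 (low_ne j).2 c
  | one => rw [map_one, map_one]; exact Commute.one_right _
  | mul a b _ _ ha hb => rw [map_mul, map_mul]; exact ha.mul_right hb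
  | inv a _ ha => rw [map_inv, map_inv]; exact ha.inv_right

set_option maxHeartbeats 1000000 in
/-- One generator and six or eight relations beyond the special linear group. -/
theorem presN_Omega (hl : 2 ≤ l) {g r : ℕ}
    (h : PresN g (Matrix.SpecialLinearGroup (Fin (l + 2)) F) r) :
    PresN (g + 1) ↥(Cfsg.Omega F (Cfsg.quadFormPlus (l + 2) F)) (r + (2 * (if l = 2 then 3 else 2) + 2)) ∧
      ∃ z, Subgroup.normalClosure {z} = Subgroup.center ↥(Cfsg.Omega F (Cfsg.quadFormPlus (l + 2) F)) := by
  classical
  obtain ⟨rels, q, hc, hq, hrel, huniv⟩ := h.exists_hom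
  choose s hs using hq
  obtain ⟨u, hu⟩ := exists_sw_gen (F := F)
  obtain ⟨Z, hZc, hZ⟩ := exists_blk_gens (F := F) hl
  let W : FreeGroup (Fin g) →* FreeGroup (Fin g ⊕ Unit) := FreeGroup.map Sum.inl
  let T : FreeGroup (Fin g ⊕ Unit) := FreeGroup.of (Sum.inr ())
  let wd : Matrix.SpecialLinearGroup (Fin (l + 2)) F → FreeGroup (Fin g ⊕ Unit) := fun x => W (s x)
  let kw : SL2 → FreeGroup (Fin g ⊕ Unit) := fun a => T * wd (emb2 (jc_ia (two_one hl)).symm a) * T⁻¹
  let p : Matrix.SpecialLinearGroup (Fin (l + 2)) F := emb2 (jc_ia (two_one hl)) (J2 F)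
  let rexp : FreeGroup (Fin g ⊕ Unit) := T * (wd p * kw (ue (-1) * le' 1 * ue (-1)) * (wd p)⁻¹)⁻¹
  let rneg : FreeGroup (Fin g ⊕ Unit) := wd (emb2 (iab l) (-1)) * kw (-1)
  let rc : SL2 → SL2 × Matrix.SpecialLinearGroup (Fin l) F → FreeGroup (Fin g ⊕ Unit) := fun a z =>
    ⁅kw a, wd (blk hl z)⁆
  let R : Finset (FreeGroup (Fin g ⊕ Unit)) :=
    rels.image W ∪ (Z.image (rc u) ∪ (Z.image (rc (sw u)) ∪ {rexp, rneg}))
  have hRc : R.card ≤ r + (2 * (if l = 2 then 3 else 2) + 2) := by
    have h1 := Finset.card_image_le (s := rels) (f := W)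
    have h2 := Finset.card_image_le (s := Z) (f := rc u)
    have h3 := Finset.card_image_le (s := Z) (f := rc (sw u))
    have h4 := Finset.card_le_two (a := rexp) (b := rneg)
    have h5 := Finset.card_union_le (rels.image W) (Z.image (rc u) ∪ (Z.image (rc (sw u)) ∪ {rexp, rneg}))
    have h6 := Finset.card_union_le (Z.image (rc u)) (Z.image (rc (sw u)) ∪ {rexp, rneg})
    have h7 := Finset.card_union_le (Z.image (rc (sw u))) {rexp, rneg}
    simp only [R]; omega
  let f : Fin g ⊕ Unit → GL (II l) F :=
    Sum.elim (fun i => Fork.levi (q (FreeGroup.of i))) (fun _ => tm F l)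
  have hfW : ∀ w, FreeGroup.lift f (W w) = Fork.levi (q w) := fun w => DFunLike.congr_fun
    (FreeGroup.ext_hom ((FreeGroup.lift f).comp W) (Fork.levi.comp q) fun i => by simp [W, f]) w
  have hfwd : ∀ x, FreeGroup.lift f (wd x) = Fork.levi x := fun x => by rw [hfW, hs]
  have hfT : FreeGroup.lift f T = tm F l := by simp [T, f]
  have hfk : ∀ a, FreeGroup.lift f (kw a) = kapm (two_one hl) a := fun a => by
    simp only [kw, map_mul, map_inv, hfT, hfwd]; rfl
  have hR : ∀ w ∈ R, FreeGroup.lift f w = 1 := by
    intro w hw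
    simp only [R, Finset.mem_union, Finset.mem_image, Finset.mem_insert, Finset.mem_singleton] at hw
    rcases hw with ⟨v, hv, rfl⟩ | ⟨z, hz, rfl⟩ | ⟨z, hz, rfl⟩ | rfl | rfl
    · rw [hfW, hrel v hv, map_one]
    · simp only [rc, map_commutatorElement, hfk, hfwd]
      exact commutatorElement_eq_one_iff_commute.2 (kapm_comm_blk hl _ z)
    · simp only [rc, map_commutatorElement, hfk, hfwd]
      exact commutatorElement_eq_one_iff_commute.2 (kapm_comm_blk hl _ z)
    · simp only [rexp, map_mul, map_inv, hfT, hfwd, hfk]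
      rw [mul_inv_eq_one]
      simpa only [map_mul] using kapm_expr (two_one hl) (J2_val (F := F))
    · simp only [rneg, map_mul, hfwd, hfk]
      exact kapm_neg (two_one hl)
  set m := PresentedGroup.mk (↑R : Set (FreeGroup (Fin g ⊕ Unit))) with hm
  have one : ∀ w ∈ R, m w = 1 := fun w hw => PresentedGroup.one_of_mem (Finset.mem_coe.mpr hw)
  obtain ⟨Φ, hΦ⟩ := huniv (m.comp W) fun v hv =>
    one _ (Finset.mem_union_left _ (Finset.mem_image_of_mem _ hv))
  have ewd : ∀ x, m (wd x) = Φ x := fun x => by
    show m.comp W (s x) = _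
    rw [← hΦ, hs]
  have ekw : ∀ a, m (kw a) = kapG hl Φ (m T) a := fun a => by
    simp only [kw, map_mul, map_inv, ewd]; rfl
  let π := PresentedGroup.toGroup (f := f) (rels := (↑R : Set (FreeGroup (Fin g ⊕ Unit))))
    (fun w hw => hR w (Finset.mem_coe.mp hw))
  have hπm : ∀ w, π (m w) = FreeGroup.lift f w := fun w => rfl
  let D : Gluing F (PresentedGroup (↑R : Set (FreeGroup (Fin g ⊕ Unit)))) l :=
  { two := hl
    Φ := Φ
    t := m T
    comm := by
      have key : ∀ a, a = u ∨ a = sw u → ∀ z, Commute (kapG hl Φ (m T) a) (Φ (blk hl z)) := by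
        intro a ha z
        have hz : z ∈ Subgroup.closure (Z : Set (SL2 × Matrix.SpecialLinearGroup (Fin l) F)) :=
          hZ ▸ Subgroup.mem_top z
        induction hz using Subgroup.closure_induction with
        | mem z hz =>
          have h1 : m (rc a z) = 1 := by
            rcases ha with rfl | rfl
            · exact one _ (Finset.mem_union_right _ (Finset.mem_union_left _ (Finset.mem_image_of_mem _ hz)))
            · exact one _ (Finset.mem_union_right _ (Finset.mem_union_right _
                (Finset.mem_union_left _ (Finset.mem_image_of_mem _ hz))))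
          simp only [rc, map_commutatorElement, ekw, ewd] at h1
          exact commutatorElement_eq_one_iff_commute.1 h1
        | one => rw [map_one, map_one]; exact Commute.one_right _
        | mul x y _ _ hx hy => rw [map_mul, map_mul]; exact hx.mul_right hy
        | inv x _ hx => rw [map_inv, map_inv]; exact hx.inv_right
      intro a z
      have ha : a ∈ Subgroup.closure ({u, sw u} : Set SL2) := hu ▸ Subgroup.mem_top a
      induction ha using Subgroup.closure_induction with
      | mem x hx => exact key x hx z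
      | one => rw [map_one]; exact Commute.one_left _
      | mul x y _ _ hx hy => rw [map_mul]; exact hx.mul_left hy
      | inv x _ hx => rw [map_inv]; exact hx.inv_left
    expr := by
      have h1 := one rexp (by simp [R])
      simp only [rexp, map_mul, map_inv, ekw, ewd, mul_inv_eq_one] at h1
      simpa only [map_mul] using h1
    neg := by
      have h1 := one rneg (by simp [R])
      simp only [rneg, map_mul, ekw, ewd] at h1
      exact h1
    gen := by
      rw [eq_top_iff, ← PresentedGroup.closure_range_of (↑R : Set (FreeGroup (Fin g ⊕ Unit))), Subgroup.closure_le]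
      rintro _ ⟨i | i, rfl⟩
      · exact Subgroup.subset_closure (Or.inl ⟨q (FreeGroup.of i), by rw [hΦ]; simp [W, hm]; rfl⟩)
      · exact Subgroup.subset_closure (Or.inr rfl)
    π := π
    π_Φ := fun x => by rw [← ewd, hπm, hfwd]
    π_t := by rw [hπm, hfT] }
  obtain ⟨e⟩ := D.equiv
  have hP : PresN (g + 1) (PresentedGroup (↑R : Set (FreeGroup (Fin g ⊕ Unit)))) R.card :=
    PresN.of_inv (show Fintype.card (Fin g ⊕ Unit) = g + 1 by simp) R PresentedGroup.of
      (fun w hw => by
        rw [show FreeGroup.lift PresentedGroup.of = m from FreeGroup.ext_hom _ _ fun i => by simp [hm]; rfl]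
        exact one w hw)
      (MonoidHom.id _) (fun i => rfl) (PresentedGroup.closure_range_of _)
  obtain ⟨rels', hc', ⟨e'⟩⟩ := hP.mono hRc
  exact ⟨⟨rels', hc', ⟨e'.trans e⟩⟩, D.center_cyclic⟩

end Cfsg.Agent.Small.OmegaPres
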